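import Groth.Agent.L05.Bosch.RigPoint
import Mathlib.RingTheory.Norm.Transitivity
import Mathlib.RingTheory.IntegralClosure.IntegrallyClosed
import Mathlib.RingTheory.Algebraic.Integral
import Mathlib.RingTheory.IntegralClosure.IsIntegralClosure.Basic
import Mathlib.FieldTheory.Minpoly.IsIntegrallyClosed
import Mathlib.Algebra.GCDMonoid.IntegrallyClosed
import Mathlib.RingTheory.Bezout

/-!
# The extension of a Henselian valuation
-/

set_option autoImplicit false

open Polynomial
open scoped IntermediateField

universe u v w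

namespace Groth.L05.Bosch

/-- The `u, u⁻¹` lemma over a local integrally closed domain. -/
theorem mem_or_inv_mem {S : Type u} [CommRing S] [IsLocalRing S] {L : Type v} [Field L] [Algebra S L]
    (hcl : ∀ y : L, IsIntegral S y → y ∈ (algebraMap S L).range) (hinj : Function.Injective (algebraMap S L))
    (x : L) (n : ℕ) :
    ∀ a : ℕ → S, (∑ i ∈ Finset.range (n + 1), algebraMap S L (a i) * x ^ i = 0) →
      (∃ i ≤ n, IsUnit (a i)) →
      x ∈ (algebraMap S L).range ∨ x⁻¹ ∈ (algebraMap S L).range := by
  induction n with
  | zero =>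
    rintro a h ⟨i, hi, hu⟩
    obtain rfl := Nat.le_zero.mp hi
    rw [Finset.sum_range_one, pow_zero, mul_one] at h
    exact absurd ((injective_iff_map_eq_zero _).mp hinj _ h) hu.ne_zero
  | succ n ih =>
    intro a h hu
    let p : S[X] := ∑ i ∈ Finset.range (n + 1 + 1), Polynomial.monomial i (a i)
    have hp : aeval x p = 0 := by
      simpa [p, aeval_monomial] using h
    by_cases hb0 : a (n + 1) = 0
    · refine ih a ?_ ?_
      · rw [Finset.sum_range_succ, hb0, map_zero, zero_mul, add_zero] at h; exact h
      · obtain ⟨i, hi, hiu⟩ := hu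
        refine ⟨i, Nat.lt_succ_iff.mp (lt_of_le_of_ne hi fun e => ?_), hiu⟩
        rw [e, hb0] at hiu
        exact hiu.ne_zero rfl
    have hdeg : p.natDegree = n + 1 := by
      refine le_antisymm (natDegree_sum_le_of_forall_le _ _ fun i hi => (natDegree_monomial_le _).trans
        (Nat.lt_succ_iff.mp (Finset.mem_range.mp hi))) (le_natDegree_of_ne_zero ?_)
      simpa [p, coeff_monomial] using hb0
    have hlead : p.leadingCoeff = a (n + 1) := by
      rw [leadingCoeff, hdeg]; simp [p, coeff_monomial]
    have hint : IsIntegral S (algebraMap S L (a (n + 1)) * x) := by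
      rw [← hlead]
      exact isIntegral_leadingCoeff_smul p x hp |> fun h => by rwa [Algebra.smul_def] at h
    obtain ⟨b, hb⟩ := hcl _ hint
    by_cases hbu : IsUnit b
    · obtain ⟨v, rfl⟩ := hbu
      refine Or.inr ⟨↑v⁻¹ * a (n + 1), ?_⟩
      refine eq_inv_of_mul_eq_one_left ?_
      rw [map_mul, mul_assoc, ← hb, ← map_mul, Units.inv_mul, map_one]
    by_cases hau : IsUnit (a (n + 1))
    · obtain ⟨v, hv⟩ := hau
      exact Or.inl ⟨↑v⁻¹ * b, by rw [map_mul, hb, ← mul_assoc, ← map_mul, ← hv, Units.inv_mul, map_one, one_mul]⟩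
    refine ih (Function.update a n (b + a n)) ?_ ?_
    · rw [Finset.sum_range_succ, Finset.sum_range_succ] at h
      rw [Finset.sum_range_succ, Function.update_self,
        Finset.sum_congr rfl fun i hi => by rw [Function.update_of_ne (Finset.mem_range.mp hi).ne],
        map_add, hb, ← h, pow_succ]
      ring
    · obtain ⟨i, hi, hiu⟩ := hu
      by_cases hin : i = n
      · refine ⟨n, le_rfl, ?_⟩
        rw [Function.update_self]
        subst hin
        by_contra hnu
        have : a i = (b + a i) + -b := by ring
        exact (IsLocalRing.nonunits_add hnu (by simpa using hbu)) (this ▸ hiu)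
      · refine ⟨i, Nat.lt_succ_iff.mp (lt_of_le_of_ne hi fun e => hau (by rwa [e] at hiu)), ?_⟩
        rwa [Function.update_of_ne hin]

/-- An element algebraic over a Henselian valuation ring, or its inverse, is integral. -/
theorem mem_or_inv_mem_of_isAlgebraic {R : Type u} [CommRing R] [IsDomain R] [ValuationRing R]
    [HenselianLocalRing R] (S : Type u) [CommRing S] [IsDomain S] [Algebra R S] [Algebra.IsIntegral R S]
    (L : Type v) [Field L] [Algebra S L] [Algebra R L] [IsScalarTower R S L]
    (hinj : Function.Injective (algebraMap S L)) (hinjR : Function.Injective (algebraMap R S))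
    (hcl : ∀ y : L, IsIntegral S y → y ∈ (algebraMap S L).range)
    (x : L) (halg : IsAlgebraic R x) : x ∈ (algebraMap S L).range ∨ x⁻¹ ∈ (algebraMap S L).range := by
    haveI : IsLocalRing S := Groth.L05.isLocalRing_of_integral_domain (A := R) S
    obtain ⟨p, hp0, hpx⟩ := halg
    classical
    obtain ⟨d, hd, hdl, hds⟩ := exists_dvd_all p.leadingCoeff (p.support.image p.coeff)
    obtain ⟨q, hq⟩ := (C_dvd_iff_dvd_coeff d p).mpr fun i => by
      by_cases h : p.coeff i = 0
      · rw [h]; exact dvd_zero d
      · exact hds _ (Finset.mem_image_of_mem _ (mem_support_iff.mpr h))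
    have hd0 : d ≠ 0 := fun h => hp0 (by rw [hq, h, map_zero, zero_mul])
    obtain ⟨i₀, hi₀⟩ : ∃ i, p.coeff i = d := by
      rcases hd with rfl | hd
      · exact ⟨p.natDegree, rfl⟩
      · obtain ⟨i, -, hi⟩ := Finset.mem_image.mp hd; exact ⟨i, hi⟩
    have hqi : q.coeff i₀ = 1 := mul_left_cancel₀ hd0 (by rw [mul_one, ← coeff_C_mul, ← hq, hi₀])
    have hqx : aeval x q = 0 := by
      have h : algebraMap R L d * aeval x q = 0 := by rw [← hpx, hq, map_mul, aeval_C]
      refine (mul_eq_zero.mp h).resolve_left fun h0 => hd0 (hinjR (hinj ?_))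
      rw [← IsScalarTower.algebraMap_apply, h0, map_zero, map_zero]
    refine mem_or_inv_mem hcl hinj x q.natDegree (fun i => algebraMap R S (q.coeff i)) ?_
      ⟨i₀, le_natDegree_of_ne_zero (by rw [hqi]; exact one_ne_zero), by rw [hqi, map_one]; exact isUnit_one⟩
    rw [← hqx, aeval_eq_sum_range]
    exact Finset.sum_congr rfl fun i _ => by rw [← IsScalarTower.algebraMap_apply, Algebra.smul_def]

/-- The integral closure of a Henselian valuation ring in an algebraic extension is a valuation ring. -/
theorem valuationRing_of_isAlgebraic {R : Type u} [CommRing R] [IsDomain R] [ValuationRing R]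
    [HenselianLocalRing R] (S : Type u) [CommRing S] [IsDomain S] [Algebra R S] [Algebra.IsIntegral R S]
    (L : Type v) [Field L] [Algebra S L] [Algebra R L] [IsScalarTower R S L]
    (hinj : Function.Injective (algebraMap S L)) (hinjR : Function.Injective (algebraMap R S))
    (hcl : ∀ y : L, IsIntegral S y → y ∈ (algebraMap S L).range)
    (halg : ∀ x : L, IsAlgebraic R x) : ValuationRing S := by
  have key := fun x => mem_or_inv_mem_of_isAlgebraic (R := R) S L hinj hinjR hcl x (halg x)
  refine { cond' := fun a b => ?_ : ValuationRing S }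
  by_cases hb : b = 0
  · exact ⟨0, Or.inl (by rw [mul_zero, hb])⟩
  have hb' : algebraMap S L b ≠ 0 := fun h => hb (hinj (by rw [h, map_zero]))
  rcases key (algebraMap S L a / algebraMap S L b) with ⟨c, hc⟩ | ⟨c, hc⟩
  · exact ⟨c, Or.inr (hinj (by rw [map_mul, hc, mul_div_cancel₀ _ hb']))⟩
  · by_cases ha : a = 0
    · exact ⟨0, Or.inr (by rw [mul_zero, ha])⟩
    · have ha' : algebraMap S L a ≠ 0 := fun h => ha (hinj (by rw [h, map_zero]))
      exact ⟨c, Or.inl (hinj (by rw [map_mul, hc, inv_div, mul_div_cancel₀ _ ha']))⟩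

theorem valuationRing_integralClosure {R : Type u} [CommRing R] [IsDomain R] [ValuationRing R]
    [HenselianLocalRing R] (L : Type u) [Field L] [Algebra R L]
    (hinj : Function.Injective (algebraMap R L)) (halg : ∀ x : L, IsAlgebraic R x) :
    ValuationRing (integralClosure R L) :=
  valuationRing_of_isAlgebraic (integralClosure R L) L Subtype.val_injective
    (fun _ _ h => hinj (congrArg Subtype.val h))
    (fun y hy => ⟨⟨y, isIntegral_trans y hy⟩, rfl⟩) halg

theorem valuationRing_integralClosure_fractionRing {R : Type u} [CommRing R] [IsDomain R] [ValuationRing R]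
    [HenselianLocalRing R] (B : Type u) [CommRing B] [IsDomain B] [Algebra R B] [Algebra.IsIntegral R B]
    (hinj : Function.Injective (algebraMap R B)) :
    ValuationRing (integralClosure B (FractionRing B)) := by
  haveI : Algebra.IsIntegral R (integralClosure B (FractionRing B)) :=
    Algebra.IsIntegral.trans (R := R) B
  have hinjL : Function.Injective (algebraMap R (FractionRing B)) := by
    rw [IsScalarTower.algebraMap_eq R B (FractionRing B)]
    exact (IsFractionRing.injective B (FractionRing B)).comp hinj
  refine valuationRing_of_isAlgebraic (R := R) (integralClosure B (FractionRing B)) (FractionRing B)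
    Subtype.val_injective (fun _ _ h => hinjL (by simpa using congrArg Subtype.val h))
    (fun y hy => ⟨⟨y, isIntegral_trans y hy⟩, rfl⟩) fun x => ?_
  obtain ⟨a, s, hs, rfl⟩ := IsFractionRing.div_surjective (A := B) x
  have halg : ∀ b : B, IsAlgebraic R (algebraMap B (FractionRing B) b) := fun b =>
    ((Algebra.IsIntegral.isIntegral (R := R) b).algebraMap).isAlgebraic
  rw [div_eq_mul_inv]
  exact (halg a).mul (halg s).inv

/-- Integrality is detected by the norm. -/
theorem isIntegral_iff_norm_mem {R : Type u} [CommRing R] [IsDomain R] [ValuationRing R] [HenselianLocalRing R]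
    (L : Type u) [Field L] [Algebra R L] [Algebra (FractionRing R) L] [IsScalarTower R (FractionRing R) L]
    [Algebra.IsAlgebraic (FractionRing R) L] (α : L) :
    IsIntegral R α ↔ Algebra.norm (FractionRing R) (IntermediateField.AdjoinSimple.gen (FractionRing R) α) ∈
      (algebraMap R (FractionRing R)).range := by
  haveI : IsIntegrallyClosed R := by
    classical
    letI : GCDMonoid R := IsBezout.toGCDDomain R
    infer_instance
  let K := FractionRing R
  constructor
  · intro h
    have hK : IsIntegral K α := h.tower_top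
    rw [← IntermediateField.adjoin.powerBasis_gen hK, Algebra.PowerBasis.norm_gen_eq_coeff_zero_minpoly,
      IntermediateField.adjoin.powerBasis_gen hK, IntermediateField.minpoly_gen,
      minpoly.isIntegrallyClosed_eq_field_fractions' K h, Polynomial.coeff_map]
    exact mul_mem (pow_mem (neg_mem (one_mem _)) _) ⟨_, rfl⟩
  · rintro ⟨a, ha⟩
    by_contra hα
    have hinj : Function.Injective (algebraMap R L) := by
      rw [IsScalarTower.algebraMap_eq R K L]
      exact (algebraMap K L).injective.comp (IsFractionRing.injective R K)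
    have halg : ∀ x : L, IsAlgebraic R x := fun x =>
      ((IsFractionRing.isAlgebraic_iff R K L).mpr (Algebra.IsAlgebraic.isAlgebraic x))
    have hβ : IsIntegral R α⁻¹ := by
      rcases mem_or_inv_mem_of_isAlgebraic (R := R) (integralClosure R L) L Subtype.val_injective
        (fun _ _ h => hinj (congrArg Subtype.val h))
        (fun y hy => ⟨⟨y, isIntegral_trans y hy⟩, rfl⟩) α (halg α) with ⟨c, hc⟩ | ⟨c, hc⟩
      · exact absurd (hc ▸ c.2) hα
      · exact hc ▸ c.2
    have hβK : IsIntegral K α⁻¹ := hβ.tower_top
    set g := IntermediateField.AdjoinSimple.gen K α with hg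
    haveI : FiniteDimensional K K⟮α⟯ :=
      IntermediateField.adjoin.finiteDimensional (Algebra.IsAlgebraic.isAlgebraic α).isIntegral
    have hmin : minpoly K (g⁻¹ : K⟮α⟯) = (minpoly R α⁻¹).map (algebraMap R K) := by
      rw [← minpoly.algebraMap_eq (algebraMap K⟮α⟯ L).injective, map_inv₀,
        IntermediateField.AdjoinSimple.algebraMap_gen, minpoly.isIntegrallyClosed_eq_field_fractions' K hβ]
    have hq0 : ¬ IsUnit ((minpoly R α⁻¹).coeff 0) := by
      intro hu
      let β : integralClosure R L := ⟨α⁻¹, hβ⟩
      have h1 : aeval β (minpoly R α⁻¹) = 0 := Subtype.val_injective (by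
        rw [← Subalgebra.coe_val, ← aeval_algHom_apply]
        exact minpoly.aeval R α⁻¹)
      rw [← X_mul_divX_add (minpoly R α⁻¹), map_add, map_mul, aeval_X, aeval_C] at h1
      have hβu : IsUnit β := isUnit_of_mul_isUnit_left
        (y := aeval β (minpoly R α⁻¹).divX) (by
          rw [eq_neg_of_add_eq_zero_left h1]; exact (hu.map _).neg)
      obtain ⟨γ, hγ⟩ := hβu.exists_right_inv
      have : α = (γ : L) := by
        have h2 : α⁻¹ * (γ : L) = 1 := by
          simpa [β] using congrArg Subtype.val hγ
        exact (inv_mul_eq_one₀ (fun h => hα (by rw [h]; exact isIntegral_zero))).mp h2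
      exact hα (this ▸ γ.2)
    obtain ⟨r, hr, hru⟩ : ∃ r : R, algebraMap R K r = Algebra.norm K (g⁻¹ : K⟮α⟯) ∧ ¬ IsUnit r := by
      have hint : IsIntegral K (g⁻¹ : K⟮α⟯) := Algebra.IsIntegral.isIntegral _
      refine ⟨((-1) ^ (minpoly R α⁻¹).natDegree * (minpoly R α⁻¹).coeff 0) ^
        Module.finrank K⟮(g⁻¹ : K⟮α⟯)⟯ K⟮α⟯, ?_, ?_⟩
      · rw [Algebra.norm_eq_norm_adjoin K (g⁻¹ : K⟮α⟯), ← IntermediateField.adjoin.powerBasis_gen hint,
          Algebra.PowerBasis.norm_gen_eq_coeff_zero_minpoly, IntermediateField.adjoin.powerBasis_gen hint,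
          IntermediateField.minpoly_gen, IntermediateField.adjoin.powerBasis_dim, hmin,
          (minpoly.monic hβ).natDegree_map, Polynomial.coeff_map, map_pow, map_mul, map_pow, map_neg, map_one]
      · rw [isUnit_pow_iff (Module.finrank_pos.ne')]
        exact fun h => hq0 (isUnit_of_mul_isUnit_right h)
    have hgne : g ≠ 0 := fun h => hα (by
      have : α = 0 := by
        rw [← IntermediateField.AdjoinSimple.algebraMap_gen K α, ← hg, h, map_zero]
      rw [this]; exact isIntegral_zero)
    have hmul : algebraMap R K (a * r) = 1 := by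
      rw [map_mul, hr, ha, ← map_mul, mul_inv_cancel₀ hgne, map_one]
    exact hru (IsUnit.of_mul_eq_one a (IsFractionRing.injective R K (by rw [mul_comm, hmul, map_one])))

end Groth.L05.Bosch
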