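import Groth.Agent.L05.Bosch.RigApps
import Groth.Agent.L05.Bosch.Valuation
import Mathlib.RingTheory.Adjoin.Basic
import Mathlib.RingTheory.TensorProduct.Maps
import Mathlib.Tactic.LinearCombination

/-!
# Finite birational extensions of admissible algebras over a valuation ring
-/

set_option autoImplicit false

open AdicRing TensorProduct

universe u v

namespace Groth.L05.Bosch

variable {R : Type u} [CommRing R] [IsDomain R] [ValuationRing R] [Ring.KrullDimLE 1 R] {t : R}
variable (hR : IsAdicComplete (Ideal.span {t}) R) (ht : t ≠ 0)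

include hR ht

/-- An algebra finite over an algebra topologically of finite type is topologically of finite type. -/
theorem topFiniteType_of_finite {A : Type u} [CommRing A] [Algebra R A]
    (hA : TopFiniteType R (Ideal.span {t}) A) (B : Type u) [CommRing B] [Algebra R B] [Algebra A B]
    [IsScalarTower R A B] [Module.Finite A B] : TopFiniteType R (Ideal.span {t}) B := by
  have hb := isBase_of_valuation hR ht
  haveI := isAdicComplete_of_topFiniteType hb hA B
  haveI : IsAdicComplete ((Ideal.span {t}).map (algebraMap R B)) B :=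
    (IsAdicComplete.map_algebraMap_iff (S := B) (Ideal.span {t}) B).mpr inferInstance
  let JA := (Ideal.span {t}).map (algebraMap R A)
  let JB := (Ideal.span {t}).map (algebraMap R B)
  have hle : JA ≤ JB.comap (algebraMap A B) := by
    rw [← Ideal.map_le_iff_le_comap, Ideal.map_map, ← IsScalarTower.algebraMap_eq]
  letI : Algebra (A ⧸ JA) (B ⧸ JB) := (Ideal.quotientMap JB (algebraMap A B) hle).toAlgebra
  haveI : IsScalarTower A (A ⧸ JA) (B ⧸ JB) := IsScalarTower.of_algebraMap_eq fun x => by
    rw [RingHom.algebraMap_toAlgebra, Ideal.Quotient.algebraMap_eq, Ideal.quotientMap_mk]; rfl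
  haveI : IsScalarTower R (A ⧸ JA) (B ⧸ JB) := IsScalarTower.of_algebraMap_eq fun x => by
    rw [IsScalarTower.algebraMap_apply R A (A ⧸ JA), ← IsScalarTower.algebraMap_apply A (A ⧸ JA) (B ⧸ JB),
      ← IsScalarTower.algebraMap_apply R A (B ⧸ JB)]
  haveI : Module.Finite A (B ⧸ JB) :=
    Module.Finite.of_surjective (Ideal.Quotient.mkₐ A JB).toLinearMap (Ideal.Quotient.mkₐ_surjective A JB)
  haveI : Module.Finite (A ⧸ JA) (B ⧸ JB) := Module.Finite.of_restrictScalars_finite A (A ⧸ JA) (B ⧸ JB)
  haveI : Algebra.FiniteType R (B ⧸ JB) := Algebra.FiniteType.trans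
    (finiteType_quotient_of_topFiniteType hb hA JA le_rfl)
    (inferInstance : Algebra.FiniteType (A ⧸ JA) (B ⧸ JB))
  exact topFiniteType_of_finiteType_quotient (Submodule.fg_span_singleton t)

theorem algebraMap_mem_nonZeroDivisors {A : Type u} [CommRing A] [Algebra R A]
    (hA : Admissible R (Ideal.span {t}) A) {c : R} (hc : c ≠ 0) :
    algebraMap R A c ∈ nonZeroDivisors A := by
  obtain ⟨k, e, he⟩ := exists_dvd_pow (not_isUnit_of_isAdicComplete hR) hc
  refine mem_nonZeroDivisors_iff_right.mpr fun x hx => hA.2 x k fun a ha => ?_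
  rw [Ideal.span_singleton_pow, Ideal.mem_span_singleton] at ha
  obtain ⟨d, rfl⟩ := ha
  rw [he, Algebra.smul_def, map_mul, map_mul]
  linear_combination (algebraMap R A e * algebraMap R A d) * hx

theorem algebraMap_tensor_injective {A : Type u} [CommRing A] [Algebra R A]
    (hA : Admissible R (Ideal.span {t}) A) :
    Function.Injective (algebraMap A (A ⊗[R] FractionRing R)) := by
  haveI := isLocalization_away_tensor hR ht A
  refine IsLocalization.injective (M := Submonoid.powers (algebraMap R A t)) _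
    (Submonoid.powers_le.mpr (algebraMap_mem_nonZeroDivisors hR ht hA ht))

theorem admissible_adjoin {A : Type u} [CommRing A] [Algebra R A] (hA : Admissible R (Ideal.span {t}) A)
    {n : ℕ} (f : Fin n → A ⊗[R] FractionRing R) (hf : ∀ i, IsIntegral A (f i)) :
    Admissible R (Ideal.span {t}) ↥(Algebra.adjoin A (Set.range f)) ∧
      Module.Finite A ↥(Algebra.adjoin A (Set.range f)) := by
  haveI hfin : Module.Finite A ↥(Algebra.adjoin A (Set.range f)) :=
    ⟨(Submodule.fg_top _).mpr (fg_adjoin_of_finite (Set.finite_range f) (by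
      rintro _ ⟨i, rfl⟩; exact hf i))⟩
  have hB := topFiniteType_of_finite hR ht (topFiniteType_of_admissible hR ht hA)
    ↥(Algebra.adjoin A (Set.range f))
  have hT : NoPowTorsion (Ideal.span {t}) ↥(Algebra.adjoin A (Set.range f)) := fun x k hx => by
    have h1 : t ^ k • (x : A ⊗[R] FractionRing R) = 0 :=
      congrArg Subtype.val (hx (t ^ k) (Ideal.pow_mem_pow (Ideal.mem_span_singleton_self t) k))
    have hu : IsUnit (algebraMap R (A ⊗[R] FractionRing R) (t ^ k)) := by
      have : algebraMap R (A ⊗[R] FractionRing R) (t ^ k) =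
          (Algebra.TensorProduct.includeRight : FractionRing R →ₐ[R] A ⊗[R] FractionRing R)
            (algebraMap R (FractionRing R) (t ^ k)) := (AlgHom.commutes _ _).symm
      rw [this]
      exact (IsUnit.mk0 _ fun h => pow_ne_zero k ht
        (IsFractionRing.injective R (FractionRing R) (by rw [h, map_zero]))).map _
    refine Subtype.ext ?_
    rw [← algebraMap_smul (A ⊗[R] FractionRing R) (t ^ k), smul_eq_mul] at h1
    exact hu.mul_right_eq_zero.mp h1
  exact ⟨⟨topFinitePresentation_of_noPowTorsion (isBase_of_valuation hR ht) hB hT, hT⟩, hfin⟩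

theorem existsUnique_extension {A : Type u} [CommRing A] [Algebra R A] (hA : Admissible R (Ideal.span {t}) A)
    {n : ℕ} (f : Fin n → A ⊗[R] FractionRing R) (hf : ∀ i, IsIntegral A (f i))
    (c : R) (hc : c ≠ 0) (g : Fin n → A)
    (hg : ∀ i, algebraMap A (A ⊗[R] FractionRing R) (g i) = c • f i)
    (D : Type u) [CommRing D] [Algebra R D] (hD : Admissible R (Ideal.span {t}) D) (φ : A →ₐ[R] D)
    (hgen : (Ideal.span (insert (algebraMap R A c) (Set.range g))).map φ = Ideal.span {algebraMap R D c} ∨
      ∃ i, (Ideal.span (insert (algebraMap R A c) (Set.range g))).map φ = Ideal.span {φ (g i)}) :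
    (Ideal.span (insert (algebraMap R A c) (Set.range g))).map φ = Ideal.span {algebraMap R D c} ∧
      ∃! ψ : ↥(Algebra.adjoin A (Set.range f)) →ₐ[R] D,
        ψ.comp (IsScalarTower.toAlgHom R A ↥(Algebra.adjoin A (Set.range f))) = φ := by
  have hAinj := algebraMap_tensor_injective hR ht hA
  have hcD := algebraMap_mem_nonZeroDivisors hR ht hD hc
  have hmem : ∀ i, φ (g i) ∈ (Ideal.span (insert (algebraMap R A c) (Set.range g))).map φ := fun i =>
    Ideal.mem_map_of_mem φ (Ideal.subset_span (Set.mem_insert_of_mem _ ⟨i, rfl⟩))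
  have hcmem : algebraMap R D c ∈ (Ideal.span (insert (algebraMap R A c) (Set.range g))).map φ := by
    rw [← φ.commutes]; exact Ideal.mem_map_of_mem φ (Ideal.subset_span (Set.mem_insert _ _))
  have h1 : (Ideal.span (insert (algebraMap R A c) (Set.range g))).map φ = Ideal.span {algebraMap R D c} := by
    rcases hgen with h | ⟨i, h⟩
    · exact h
    obtain ⟨d, hd⟩ := Ideal.mem_span_singleton'.mp (h ▸ hcmem)
    obtain ⟨p, hp, hpf⟩ := hf i
    have hrel : (p.scaleRoots (algebraMap R A c)).eval (g i) = 0 := by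
      refine hAinj ?_
      rw [map_zero, ← Polynomial.aeval_algebraMap_apply_eq_algebraMap_eval, hg i, ← algebraMap_smul A c (f i),
        ← algebraMap_smul (A ⊗[R] FractionRing R) (algebraMap R A c) (f i), smul_eq_mul]
      exact Polynomial.scaleRoots_aeval_eq_zero (A := A ⊗[R] FractionRing R) hpf
    have h0 := congrArg φ hrel
    rw [Polynomial.eval_eq_sum_range, map_sum, map_zero, Polynomial.natDegree_scaleRoots,
      Finset.sum_range_succ, Polynomial.coeff_scaleRoots_natDegree, hp.leadingCoeff, one_mul] at h0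
    have h2 : φ (g i) ^ p.natDegree *
        (1 + ∑ j ∈ Finset.range p.natDegree, φ (p.coeff j) * d ^ (p.natDegree - j)) = 0 := by
      rw [mul_add, mul_one, Finset.mul_sum, ← h0, add_comm, map_pow]
      congr 1
      refine Finset.sum_congr rfl fun j hj => ?_
      rw [Polynomial.coeff_scaleRoots, map_mul, map_mul, map_pow, map_pow, φ.commutes, ← hd, mul_pow]
      have hj' := (Finset.mem_range.mp hj).le
      calc φ (g i) ^ p.natDegree * (φ (p.coeff j) * d ^ (p.natDegree - j))
          = φ (g i) ^ (p.natDegree - j + j) * (φ (p.coeff j) * d ^ (p.natDegree - j)) := by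
            rw [Nat.sub_add_cancel hj']
        _ = _ := by rw [pow_add]; ring
    have hgi : φ (g i) ∈ nonZeroDivisors D := by
      rw [← hd, mul_mem_nonZeroDivisors] at hcD
      exact hcD.2
    have h3 : 1 + ∑ j ∈ Finset.range p.natDegree, φ (p.coeff j) * d ^ (p.natDegree - j) = 0 :=
      (mem_nonZeroDivisors_iff_left.mp (pow_mem hgi _)) _ h2
    have hdu : IsUnit d := by
      refine IsUnit.of_mul_eq_one (-∑ j ∈ Finset.range p.natDegree, φ (p.coeff j) * d ^ (p.natDegree - j - 1)) ?_
      rw [mul_neg, Finset.mul_sum, neg_eq_iff_eq_neg, eq_neg_iff_add_eq_zero, add_comm, ← h3]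
      congr 1
      refine Finset.sum_congr rfl fun j hj => ?_
      have : p.natDegree - j = p.natDegree - j - 1 + 1 := by
        have := Finset.mem_range.mp hj; omega
      conv_rhs => rw [this, pow_succ]
      ring
    rw [h, ← hd, Ideal.span_singleton_mul_left_unit hdu]
  refine ⟨h1, ?_⟩
  choose e he using fun i => Ideal.mem_span_singleton'.mp (h1 ▸ hmem i)
  let Φ : A ⊗[R] FractionRing R →ₐ[R] D ⊗[R] FractionRing R := Algebra.TensorProduct.map φ (AlgHom.id R _)
  let ι : D →ₐ[R] D ⊗[R] FractionRing R := Algebra.TensorProduct.includeLeft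
  have hιinj : Function.Injective ι := algebraMap_tensor_injective hR ht hD
  have hfe : ∀ i, Φ (f i) = ι (e i) := fun i => by
    have hu : IsUnit (algebraMap R (D ⊗[R] FractionRing R) c) := by
      rw [← (Algebra.TensorProduct.includeRight : FractionRing R →ₐ[R] D ⊗[R] FractionRing R).commutes c]
      exact (IsUnit.mk0 _ fun h => hc
        (IsFractionRing.injective R (FractionRing R) (by rw [h, map_zero]))).map _
    refine hu.mul_left_cancel ?_
    rw [← smul_eq_mul (algebraMap R (D ⊗[R] FractionRing R) c), algebraMap_smul, ← map_smul, ← hg i, ← ι.commutes c, ← map_mul, mul_comm, he i]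
    simp [Φ, ι]
  have hrange : ∀ x : ↥(Algebra.adjoin A (Set.range f)), Φ x ∈ ι.range := fun ⟨x, hx⟩ => by
    induction hx using Algebra.adjoin_induction with
    | mem y hy => obtain ⟨i, rfl⟩ := hy; exact ⟨e i, (hfe i).symm⟩
    | algebraMap a => exact ⟨φ a, by simp [Φ, ι]⟩
    | add y z _ _ hy hz => simp only [map_add]; exact add_mem hy hz
    | mul y z _ _ hy hz => simp only [map_mul]; exact mul_mem hy hz
  let ψ : ↥(Algebra.adjoin A (Set.range f)) →ₐ[R] D :=
    ((AlgEquiv.ofInjective ι hιinj).symm : ι.range →ₐ[R] D).comp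
      ((Φ.comp ((Algebra.adjoin A (Set.range f)).val.restrictScalars R)).codRestrict ι.range hrange)
  have hψ : ∀ x, ι (ψ x) = Φ x := fun x => by
    have h := (AlgEquiv.ofInjective ι hιinj).apply_symm_apply ⟨Φ x, hrange x⟩
    exact congrArg Subtype.val h
  refine ⟨ψ, AlgHom.ext fun a => hιinj ?_, fun ψ' hψ' => ?_⟩
  · show ι (ψ (algebraMap A _ a)) = ι (φ a)
    rw [hψ]
    simp [Φ, ι]
  · have hcomp : ∀ a, ψ' (algebraMap A _ a) = φ a := fun a => DFunLike.congr_fun hψ' a
    have hcomp' : ∀ a, ψ (algebraMap A _ a) = φ a := fun a => hιinj (by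
      rw [hψ]; simp [Φ, ι])
    refine AlgHom.ext fun ⟨x, hx⟩ => ?_
    induction hx using Algebra.adjoin_induction with
    | mem y hy =>
      obtain ⟨i, rfl⟩ := hy
      have hy' : c • (⟨f i, Algebra.subset_adjoin ⟨i, rfl⟩⟩ : ↥(Algebra.adjoin A (Set.range f))) =
          algebraMap A _ (g i) := Subtype.ext (hg i).symm
      have h4 := congrArg ψ' hy'
      have h5 := congrArg ψ hy'
      rw [map_smul, hcomp, Algebra.smul_def] at h4
      rw [map_smul, hcomp', Algebra.smul_def] at h5
      exact (mul_cancel_left_mem_nonZeroDivisors hcD).mp (h4.trans h5.symm)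
    | algebraMap a => exact (hcomp a).trans (hcomp' a).symm
    | add y z hy hz h4 h5 =>
      show ψ' (⟨y, hy⟩ + ⟨z, hz⟩) = ψ (⟨y, hy⟩ + ⟨z, hz⟩)
      rw [map_add, map_add, h4, h5]
    | mul y z hy hz h4 h5 =>
      show ψ' (⟨y, hy⟩ * ⟨z, hz⟩) = ψ (⟨y, hy⟩ * ⟨z, hz⟩)
      rw [map_mul, map_mul, h4, h5]

theorem exists_finite_local_subalgebra (B : Type u) [CommRing B] [Algebra R B] [IsDomain B]
    (hB : Admissible R (Ideal.span {t}) B) (hdim : ringKrullDim B = 1)
    {n : ℕ} (b : Fin n → B) (hb : ∃ i, b i ≠ 0) :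
    ∃ B' : Subalgebra B (FractionRing B), Module.Finite B ↥B' ∧ IsLocalRing ↥B' ∧ ringKrullDim ↥B' = 1 ∧
      ∃ i, Ideal.span (Set.range (fun j => algebraMap B ↥B' (b j))) = Ideal.span {algebraMap B ↥B' (b i)} := by
  classical
  haveI := finite_of_admissible_dim_one hR ht B hB hdim
  haveI := henselianLocalRing_of_complete hR ht
  have htB := algebraMap_ne_zero_of_admissible hR ht hB
  haveI := valuationRing_integralClosure_fractionRing B (isLocalRing_and_dim_of_finite hR ht B htB).2.2
  let V := integralClosure B (FractionRing B)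
  obtain ⟨i₀, hi₀⟩ := hb
  obtain ⟨d, hd, hdi, hds⟩ := exists_dvd_all (algebraMap B V (b i₀)) (Finset.univ.image fun j => algebraMap B V (b j))
  obtain ⟨i, rfl⟩ : ∃ i, algebraMap B V (b i) = d := by
    rcases hd with rfl | hd
    · exact ⟨i₀, rfl⟩
    · obtain ⟨j, -, hj⟩ := Finset.mem_image.mp hd; exact ⟨j, hj⟩
  choose q hq using fun j => hds _ (Finset.mem_image_of_mem _ (Finset.mem_univ j))
  let B' : Subalgebra B (FractionRing B) := Algebra.adjoin B (Set.range fun j => (q j : FractionRing B))
  haveI hfin : Module.Finite B ↥B' := ⟨(Submodule.fg_top _).mpr (fg_adjoin_of_finite (Set.finite_range _) (by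
    rintro _ ⟨j, rfl⟩; exact (q j).2))⟩
  haveI : Module.Finite R ↥B' := Module.Finite.trans B ↥B'
  have htB' : algebraMap R ↥B' t ≠ 0 := fun h => htB <| IsFractionRing.injective B (FractionRing B) (by
    rw [map_zero, ← IsScalarTower.algebraMap_apply]; exact congrArg Subtype.val h)
  obtain ⟨hloc, hd1, -⟩ := isLocalRing_and_dim_of_finite hR ht ↥B' htB'
  refine ⟨B', hfin, hloc, hd1, i, le_antisymm (Ideal.span_le.mpr ?_) (Ideal.span_le.mpr ?_)⟩
  · rintro _ ⟨j, rfl⟩
    refine Ideal.mem_span_singleton'.mpr ⟨⟨_, Algebra.subset_adjoin ⟨j, rfl⟩⟩, Subtype.ext ?_⟩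
    have h := congrArg Subtype.val (hq j)
    exact (h.trans (mul_comm _ _)).symm
  · rintro _ rfl
    exact Ideal.subset_span ⟨i, rfl⟩

end Groth.L05.Bosch
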