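import Groth.Agent.L05.Bosch.Good
import Groth.Agent.L05.Chart.Lift
import Mathlib.Algebra.Module.FinitePresentation
import Mathlib.RingTheory.FinitePresentation
import Mathlib.RingTheory.AdicCompletion.Functoriality

/-!
# Modules and algebras over algebras topologically of finite type
-/

set_option autoImplicit false

open AdicRing

universe u v w

namespace Groth.L05.Bosch

variable {R : Type u} [CommRing R] {I : Ideal R}

theorem smul_mem_pow {B : Type v} [CommRing B] [Algebra R B] {M : Type w} [AddCommGroup M] [Module R M]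
    [Module B M] [IsScalarTower R B M] {n : ℕ} {a : B} (ha : a ∈ (I ^ n • ⊤ : Submodule R B)) (x : M) :
    a • x ∈ (I ^ n • ⊤ : Submodule R M) := by
  refine Submodule.smul_induction_on ha (fun r hr b _ => ?_) fun b b' hb hb' => ?_
  · rw [smul_assoc]
    exact Submodule.smul_mem_smul hr Submodule.mem_top
  · rw [add_smul]; exact add_mem hb hb'

theorem mem_pow_iff_mem_map {B : Type v} [CommRing B] [Algebra R B] {n : ℕ} {x : B} :
    x ∈ (I ^ n • ⊤ : Submodule R B) ↔ x ∈ (I.map (algebraMap R B)) ^ n := by
  rw [Ideal.smul_top_eq_map, Submodule.restrictScalars_mem, Ideal.map_pow]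

/-- Finite modules over complete good rings are complete. -/
theorem isAdicComplete_of_good {C : Type u} [CommRing C] [Algebra R C] [IsAdicComplete I C]
    (hG : Good R I C) (M : Type u) [AddCommGroup M] [Module R M] [Module C M] [IsScalarTower R C M]
    [Module.Finite C M] : IsAdicComplete I M := by
  haveI : IsAdicComplete (I.map (algebraMap R C)) C :=
    (IsAdicComplete.map_algebraMap_iff (S := C) I C).mpr inferInstance
  haveI : IsHausdorff I M := ⟨fun x hx => by
    obtain ⟨-, c, K, hKN, -, hAR⟩ := hG M (Submodule.span C {x})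
    have h := hAR 1 (Submodule.mem_inf.mpr ⟨SModEq.zero.mp (hx (1 + c)), Submodule.mem_span_singleton_self x⟩)
    have h' : x ∈ I ^ 1 • (Submodule.span C (Set.range fun _ : Fin 1 => x)).restrictScalars R := by
      rw [Set.range_const]
      have hKN' : K.restrictScalars R ≤ (Submodule.span C {x}).restrictScalars R := fun y hy => hKN hy
      exact Submodule.smul_mono le_rfl hKN' h
    obtain ⟨a, ha, hax⟩ := exists_coeff I (fun _ : Fin 1 => x) h'
    have hj : a 0 ∈ Ideal.jacobson (⊥ : Ideal C) := IsAdicComplete.le_jacobson_bot (I.map (algebraMap R C))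
      (pow_one (I.map (algebraMap R C)) ▸ mem_pow_iff_mem_map.mp (ha 0))
    have hu := Ideal.mem_jacobson_bot.mp hj (-1)
    refine (IsUnit.smul_eq_zero hu).mp ?_
    rw [add_smul, one_smul, mul_neg, mul_one, neg_smul]
    rw [Fin.sum_univ_one] at hax
    rw [← hax, neg_add_cancel]⟩
  refine { prec' := fun f hf => ?_ }
  obtain ⟨r, g, hg⟩ := Module.Finite.exists_fin (R := C) (M := M)
  have hd : ∀ n, f (n + 1) - f n ∈ I ^ n • (Submodule.span C (Set.range g)).restrictScalars R := by
    intro n
    rw [hg, Submodule.restrictScalars_top, ← neg_sub]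
    exact neg_mem (SModEq.sub_mem.mp (hf (Nat.le_succ n)))
  choose c hc hfc using fun n => exists_coeff I g (hd n)
  choose q hq using fun i => exists_series I (fun n => c n i) (fun n => hc n i)
  refine ⟨f 0 + ∑ i, q i • g i, fun n => SModEq.sub_mem.mpr ?_⟩
  have hfn : f n = f 0 + ∑ i, (∑ l ∈ Finset.range n, c l i) • g i := by
    induction n with
    | zero => simp
    | succ n ih =>
      rw [← sub_add_cancel (f (n + 1)) (f n), hfc n, ih]
      simp only [Finset.sum_range_succ, add_smul, Finset.sum_add_distrib]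
      abel
  rw [hfn, add_sub_add_left_eq_sub, ← Finset.sum_sub_distrib]
  refine sum_mem fun i _ => ?_
  rw [← sub_smul, ← neg_sub]
  exact smul_mem_pow (neg_mem (hq i n)) (g i)

theorem rpow_isAdicComplete (hR : IsBase R I) (n : ℕ) : IsAdicComplete I (RPow R I n) :=
  completion_isAdicComplete I (MvPolynomial (Fin n) R) (isBase_fg hR)

theorem isAdicComplete_of_topFiniteType (hR : IsBase R I) {A : Type u} [CommRing A] [Algebra R A]
    (hA : TopFiniteType R I A) (M : Type u) [AddCommGroup M] [Module R M] [Module A M]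
    [IsScalarTower R A M] [Module.Finite A M] : IsAdicComplete I M := by
  obtain ⟨n, φ, hφ⟩ := id hA
  haveI := rpow_isAdicComplete hR n
  letI : Algebra (RPow R I n) A := φ.toRingHom.toAlgebra
  haveI : IsScalarTower R (RPow R I n) A := IsScalarTower.of_algebraMap_eq fun x => (φ.commutes x).symm
  haveI : Module.Finite (RPow R I n) A := Module.Finite.of_surjective (Algebra.linearMap _ _) hφ
  haveI : IsAdicComplete I A := isAdicComplete_of_good
    (good_of_topFiniteType hR ⟨n, AlgHom.id R _, Function.surjective_id⟩) A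
  exact isAdicComplete_of_good (good_of_topFiniteType hR hA) M

theorem isAdicComplete_map_of_topFiniteType (hR : IsBase R I) {A : Type u} [CommRing A] [Algebra R A]
    (hA : TopFiniteType R I A) : IsAdicComplete (I.map (algebraMap R A)) A :=
  (IsAdicComplete.map_algebraMap_iff (S := A) I A).mpr (isAdicComplete_of_topFiniteType hR hA A)

/-- Maps out of restricted power series. -/
theorem exists_rpow_lift (hI : I.FG) {A : Type u} [CommRing A] [Algebra R A]
    [IsAdicComplete (I.map (algebraMap R A)) A] {n : ℕ} (g : Fin n → A) :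
    ∃ φ : RPow R I n →ₐ[R] A, ∀ p : MvPolynomial (Fin n) R,
      φ (algebraMap (MvPolynomial (Fin n) R) (RPow R I n) p) = MvPolynomial.aeval g p := by
  have h : (I.map (algebraMap R (MvPolynomial (Fin n) R))).map (MvPolynomial.aeval (R := R) g)
      ≤ I.map (algebraMap R A) := by
    rw [← Ideal.map_coe (MvPolynomial.aeval (R := R) g), Ideal.map_map]
    exact le_of_eq (by congr 1; exact (MvPolynomial.aeval g).comp_algebraMap)
  exact (Groth.L05.Chart.existsUnique_completion_lift
    (hI.map (algebraMap R (MvPolynomial (Fin n) R))) _ (MvPolynomial.aeval g) h).exists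

/-- A complete algebra of finite type modulo the ideal is topologically of finite type. -/
theorem topFiniteType_of_finiteType_quotient (hI : I.FG) {A : Type u} [CommRing A] [Algebra R A]
    [IsAdicComplete (I.map (algebraMap R A)) A] [Algebra.FiniteType R (A ⧸ I.map (algebraMap R A))] :
    TopFiniteType R I A := by
  obtain ⟨n, h, hh⟩ := Algebra.FiniteType.iff_quotient_mvPolynomial''.mp
    ‹Algebra.FiniteType R (A ⧸ I.map (algebraMap R A))›
  choose g hg using fun i => Ideal.Quotient.mk_surjective (h (MvPolynomial.X i))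
  obtain ⟨φ, hφ⟩ := exists_rpow_lift hI g
  haveI : IsPrecomplete I (RPow R I n) :=
    (completion_isAdicComplete I (MvPolynomial (Fin n) R) hI).toIsPrecomplete
  haveI : IsHausdorff I A := IsHausdorff.map_algebraMap_iff.mp
    (inferInstance : IsHausdorff (I.map (algebraMap R A)) A)
  refine ⟨n, φ, surjective_of_mkQ_comp_surjective (I := I) (f := φ.toLinearMap) fun y => ?_⟩
  obtain ⟨a, rfl⟩ := Submodule.Quotient.mk_surjective _ y
  obtain ⟨p, hp⟩ := hh (Ideal.Quotient.mk _ a)
  refine ⟨algebraMap (MvPolynomial (Fin n) R) _ p, (Submodule.Quotient.eq _).mpr ?_⟩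
  rw [AlgHom.toLinearMap_apply, hφ, Ideal.smul_top_eq_map, Submodule.restrictScalars_mem,
    ← Ideal.Quotient.eq, ← hp]
  refine DFunLike.congr_fun (show (Ideal.Quotient.mkₐ R (I.map (algebraMap R A))).comp
    (MvPolynomial.aeval g) = h from MvPolynomial.algHom_ext fun i => ?_) p
  simp [hg]

theorem finiteType_quotient_of_topFiniteType (hR : IsBase R I) {A : Type v} [CommRing A] [Algebra R A]
    (hA : TopFiniteType R I A) (J : Ideal A) (hJ : I.map (algebraMap R A) ≤ J) :
    Algebra.FiniteType R (A ⧸ J) := by
  obtain ⟨n, φ, hφ⟩ := hA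
  refine Algebra.FiniteType.of_surjective
    ((Ideal.Quotient.mkₐ R J).comp (φ.comp (IsScalarTower.toAlgHom R (MvPolynomial (Fin n) R) _)))
    fun y => ?_
  obtain ⟨a, rfl⟩ := Ideal.Quotient.mk_surjective y
  obtain ⟨x, rfl⟩ := hφ a
  obtain ⟨s, hs⟩ := completion_dense (isBase_fg hR) x 1
  refine ⟨s, (Ideal.Quotient.eq.mpr (hJ ?_)).symm⟩
  rw [← pow_one (I.map (algebraMap R A)), ← mem_pow_iff_mem_map]
  show φ x - φ _ ∈ _
  rw [← map_sub]
  refine (Submodule.smul_top_le_comap_smul_top (I ^ 1) φ.toLinearMap) hs

/-- The completion of an algebra of finite type is topologically of finite type. -/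
theorem topFiniteType_completion (hR : IsBase R I) {A : Type u} [CommRing A] [Algebra R A]
    (hA : TopFiniteType R I A) (C : Type u) [CommRing C] [Algebra R C] [Algebra A C]
    [IsScalarTower R A C] [Algebra.FiniteType A C] :
    TopFiniteType R I (AdicCompletion (I.map (algebraMap R C)) C) := by
  have hI := isBase_fg hR
  haveI := completion_isAdicComplete I C hI
  haveI : IsAdicComplete (I.map (algebraMap R (AdicCompletion (I.map (algebraMap R C)) C)))
      (AdicCompletion (I.map (algebraMap R C)) C) :=
    (IsAdicComplete.map_algebraMap_iff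
      (S := AdicCompletion (I.map (algebraMap R C)) C) I _).mpr inferInstance
  let JA := I.map (algebraMap R A)
  let JC := I.map (algebraMap R C)
  have hle : JA ≤ JC.comap (algebraMap A C) := by
    rw [← Ideal.map_le_iff_le_comap, Ideal.map_map, ← IsScalarTower.algebraMap_eq]
  letI : Algebra (A ⧸ JA) (C ⧸ JC) := (Ideal.quotientMap JC (algebraMap A C) hle).toAlgebra
  haveI : IsScalarTower A (A ⧸ JA) (C ⧸ JC) := IsScalarTower.of_algebraMap_eq fun x => by
    rw [RingHom.algebraMap_toAlgebra, Ideal.Quotient.algebraMap_eq, Ideal.quotientMap_mk]; rfl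
  haveI : IsScalarTower R (A ⧸ JA) (C ⧸ JC) := IsScalarTower.of_algebraMap_eq fun x => by
    rw [IsScalarTower.algebraMap_apply R A (A ⧸ JA), ← IsScalarTower.algebraMap_apply A (A ⧸ JA) (C ⧸ JC),
      ← IsScalarTower.algebraMap_apply R A (C ⧸ JC)]
  haveI hAC : Algebra.FiniteType A (C ⧸ JC) :=
    Algebra.FiniteType.of_surjective (Ideal.Quotient.mkₐ A JC) (Ideal.Quotient.mkₐ_surjective A JC)
  haveI : Algebra.FiniteType R (C ⧸ JC) := Algebra.FiniteType.trans
    (finiteType_quotient_of_topFiniteType hR hA JA le_rfl)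
    (Algebra.FiniteType.of_restrictScalars_finiteType A (A ⧸ JA) (C ⧸ JC))
  have hle' : JC ≤ (I.map (algebraMap R (AdicCompletion JC C))).comap
      (IsScalarTower.toAlgHom R C (AdicCompletion JC C)) := by
    rw [← Ideal.map_le_iff_le_comap, ← Ideal.map_coe (IsScalarTower.toAlgHom R C (AdicCompletion JC C))]
    simp [JC, Ideal.map_map, ← IsScalarTower.algebraMap_eq]
  haveI : Algebra.FiniteType R
      (AdicCompletion JC C ⧸ I.map (algebraMap R (AdicCompletion JC C))) :=
    Algebra.FiniteType.of_surjective (Ideal.quotientMapₐ _ (IsScalarTower.toAlgHom R C _) hle') fun y => by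
      obtain ⟨x, rfl⟩ := Ideal.Quotient.mk_surjective y
      obtain ⟨s, hs⟩ := completion_dense hI x 1
      refine ⟨Ideal.Quotient.mk _ s, (Ideal.Quotient.eq.mpr ?_).symm⟩
      rw [← pow_one (I.map _), ← mem_pow_iff_mem_map]
      exact hs
  exact topFiniteType_of_finiteType_quotient hI

/-- Saturated kernels: finite flat modules are finitely presented. -/
theorem finitePresentation_of_noPowTorsion (hR : IsBase R I) {A : Type u} [CommRing A] [Algebra R A]
    (hA : TopFiniteType R I A) (M : Type u) [AddCommGroup M] [Module A M] [Module R M]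
    [IsScalarTower R A M] [Module.Finite A M] (hM : NoPowTorsion I M) :
    Module.FinitePresentation A M := by
  obtain ⟨r, π, hπ⟩ := Module.Finite.exists_fin' A M
  refine Module.finitePresentation_of_surjective π hπ ?_
  refine (good_of_topFiniteType hR hA (Fin r → A) (LinearMap.ker π)).1 fun x n hx => ?_
  refine LinearMap.mem_ker.mpr (hM _ n fun a ha => ?_)
  rw [← LinearMap.map_smul_of_tower]
  exact LinearMap.mem_ker.mp (hx a ha)

theorem topFinitePresentation_of_noPowTorsion (hR : IsBase R I) {A : Type u} [CommRing A] [Algebra R A]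
    (hA : TopFiniteType R I A) (hT : NoPowTorsion I A) : TopFinitePresentation R I A := by
  obtain ⟨n, φ, hφ⟩ := hA
  refine ⟨n, φ, hφ, ?_⟩
  refine (good_of_topFiniteType hR ⟨n, AlgHom.id R _, Function.surjective_id⟩ (RPow R I n)
    (RingHom.ker φ.toRingHom)).1 fun x k hx => ?_
  refine (RingHom.mem_ker).mpr (hT _ k fun a ha => ?_)
  have h := RingHom.mem_ker.mp (hx a ha)
  exact (map_smul φ a x).symm.trans h

/-- Coherence. -/
theorem finitePresentation_of_fg (hR : IsBase R I) {A : Type u} [CommRing A] [Algebra R A]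
    (hA : TopFinitePresentation R I A) (J : Ideal A) (hJ : J.FG) : Module.FinitePresentation A J := by
  classical
  obtain ⟨n, φ, hφ, hker⟩ := hA
  obtain ⟨l, b, hb⟩ := Submodule.fg_iff_exists_fin_generating_family.mp hker
  obtain ⟨s, a, ha⟩ := Submodule.fg_iff_exists_fin_generating_family.mp hJ
  choose a' ha' using fun i => hφ (a i)
  letI : Algebra (RPow R I n) A := φ.toRingHom.toAlgebra
  let π₀ : (Fin s → A) →ₗ[A] A := Fintype.linearCombination A a
  have hrange : LinearMap.range π₀ = J := by rw [Fintype.range_linearCombination, ← ha]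
  let π : (Fin s → A) →ₗ[A] J := π₀.codRestrict J fun x => hrange ▸ LinearMap.mem_range_self π₀ x
  have hπ : Function.Surjective π := fun ⟨y, hy⟩ => by
    obtain ⟨x, hx⟩ := LinearMap.mem_range.mp (hrange.symm ▸ hy : y ∈ LinearMap.range π₀)
    exact ⟨x, Subtype.ext hx⟩
  refine Module.finitePresentation_of_surjective π hπ ?_
  rw [LinearMap.ker_codRestrict]
  let ψ : (Fin s → RPow R I n) × (Fin l → RPow R I n) →ₗ[RPow R I n] RPow R I n :=
    (Fintype.linearCombination (RPow R I n) a').coprod (Fintype.linearCombination (RPow R I n) b)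
  have hL : (LinearMap.ker ψ).FG := by
    refine (good_of_topFiniteType hR ⟨n, AlgHom.id R _, Function.surjective_id⟩ _
      (LinearMap.ker ψ)).1 fun x k hx => LinearMap.mem_ker.mpr (noPowTorsion_rpow hR n _ k fun c hc => ?_)
    rw [← LinearMap.map_smul_of_tower]
    exact LinearMap.mem_ker.mp (hx c hc)
  let g : (Fin s → RPow R I n) × (Fin l → RPow R I n) →ₗ[RPow R I n] (Fin s → A) :=
    ((Algebra.linearMap (RPow R I n) A).compLeft (Fin s)).comp (LinearMap.fst _ _ _)
  have key : (LinearMap.ker ψ).map g = (LinearMap.ker π₀).restrictScalars (RPow R I n) := by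
    ext v
    constructor
    · rintro ⟨⟨p, q⟩, hpq, rfl⟩
      have h := congrArg φ (LinearMap.mem_ker.mp hpq)
      have hq : φ (Fintype.linearCombination (RPow R I n) b q) = 0 := by
        have : Fintype.linearCombination (RPow R I n) b q ∈ RingHom.ker φ.toRingHom := by
          rw [← hb, ← Fintype.range_linearCombination]
          exact LinearMap.mem_range_self _ q
        exact this
      simp only [ψ, LinearMap.coprod_apply, map_add, hq, add_zero, map_zero] at h
      simpa [π₀, g, Fintype.linearCombination_apply, RingHom.algebraMap_toAlgebra, ha'] using h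
    · intro hv
      choose p hp using fun i => hφ (v i)
      have : Fintype.linearCombination (RPow R I n) a' p ∈ RingHom.ker φ.toRingHom := by
        have hv' : π₀ v = 0 := LinearMap.mem_ker.mp hv
        simpa [π₀, Fintype.linearCombination_apply, RingHom.mem_ker, hp, ha'] using hv'
      rw [← hb, ← Fintype.range_linearCombination] at this
      obtain ⟨q, hq⟩ := this
      refine ⟨(p, -q), ?_, ?_⟩
      · simp [ψ, hq]
      · ext i
        simpa [g, RingHom.algebraMap_toAlgebra] using hp i
  exact Submodule.FG.of_restrictScalars (RPow R I n) (key ▸ hL.map g)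

theorem topFinitePresentation_iff (hR : IsBase R I) (A : Type u) [CommRing A] [Algebra R A]
    [IsAdicComplete (I.map (algebraMap R A)) A] :
    TopFinitePresentation R I A ↔ ∀ n : ℕ, (Ideal.quotientMap ((I ^ (n + 1)).map (algebraMap R A))
      (algebraMap R A) Ideal.le_comap_map).FinitePresentation := by
  have hI := isBase_fg hR
  have hequiv : ∀ n : ℕ, (Ideal.quotientMap ((I ^ (n + 1)).map (algebraMap R A))
      (algebraMap R A) Ideal.le_comap_map).FinitePresentation ↔
      Algebra.FinitePresentation R (A ⧸ (I ^ (n + 1)).map (algebraMap R A)) := by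
    intro n
    letI := (Ideal.quotientMap ((I ^ (n + 1)).map (algebraMap R A)) (algebraMap R A)
      (Ideal.le_comap_map (I := I ^ (n + 1)))).toAlgebra
    haveI : IsScalarTower R (R ⧸ I ^ (n + 1)) (A ⧸ (I ^ (n + 1)).map (algebraMap R A)) :=
      IsScalarTower.of_algebraMap_eq fun x => by
        rw [RingHom.algebraMap_toAlgebra, Ideal.Quotient.algebraMap_eq, Ideal.quotientMap_mk]; rfl
    haveI : Algebra.FinitePresentation R (R ⧸ I ^ (n + 1)) :=
      Algebra.FinitePresentation.quotient (Ideal.FG.pow hI)
    exact ⟨fun h => by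
      haveI : Algebra.FinitePresentation (R ⧸ I ^ (n + 1))
          (A ⧸ (I ^ (n + 1)).map (algebraMap R A)) := h
      exact Algebra.FinitePresentation.trans R (R ⧸ I ^ (n + 1)) _,
      fun h => Algebra.FinitePresentation.of_restrict_scalars_finitePresentation R (R ⧸ I ^ (n + 1)) _⟩
  simp only [hequiv]
  constructor
  · rintro ⟨r, φ, hφ, hker⟩ n
    let JS : Ideal (MvPolynomial (Fin r) R) := I.map (algebraMap R (MvPolynomial (Fin r) R))
    let f : MvPolynomial (Fin r) R →ₐ[R] A ⧸ (I ^ (n + 1)).map (algebraMap R A) :=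
      (Ideal.Quotient.mkₐ R _).comp (φ.comp (IsScalarTower.toAlgHom R (MvPolynomial (Fin r) R) _))
    have hφI : ∀ z ∈ (I ^ (n + 1) • ⊤ : Submodule R (RPow R I r)),
        φ z ∈ (I ^ (n + 1)).map (algebraMap R A) := fun z hz => by
      rw [← Submodule.restrictScalars_mem R, ← Ideal.smul_top_eq_map]
      exact Submodule.smul_top_le_comap_smul_top _ φ.toLinearMap hz
    have hf : Function.Surjective f := fun y => by
      obtain ⟨a, rfl⟩ := Ideal.Quotient.mk_surjective y
      obtain ⟨x, rfl⟩ := hφ a
      obtain ⟨s, hs⟩ := completion_dense hI x (n + 1)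
      exact ⟨s, (Ideal.Quotient.eq.mpr (show φ x - φ _ ∈ _ by rw [← map_sub]; exact hφI _ hs)).symm⟩
    refine Algebra.FinitePresentation.of_surjective hf ?_
    let ev : RPow R I r →+* MvPolynomial (Fin r) R ⧸ JS ^ (n + 1) := (AdicCompletion.evalₐ JS (n + 1)).toRingHom
    have hev : ∀ s : MvPolynomial (Fin r) R, ev (algebraMap (MvPolynomial (Fin r) R) (RPow R I r) s) = Ideal.Quotient.mk (JS ^ (n + 1)) s :=
      fun s => (AdicCompletion.evalₐ JS (n + 1)).commutes s
    obtain ⟨l, b, hb⟩ := Submodule.fg_iff_exists_fin_generating_family.mp hker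
    choose s hs using fun i => Ideal.Quotient.mk_surjective (ev (b i))
    have hk : RingHom.ker f.toRingHom = Ideal.span (Set.range s) ⊔ JS ^ (n + 1) := by
      apply le_antisymm
      · intro x hx
        have hx' : φ (algebraMap _ _ x) ∈ (I ^ (n + 1)).map (algebraMap R A) :=
          Ideal.Quotient.eq_zero_iff_mem.mp hx
        rw [← φ.comp_algebraMap, ← Ideal.map_map] at hx'
        obtain ⟨z, hz, hzx⟩ := (Ideal.mem_map_iff_of_surjective φ.toRingHom hφ).mp hx'
        have hmem : algebraMap (MvPolynomial (Fin r) R) (RPow R I r) x - z ∈ RingHom.ker φ.toRingHom := by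
          rw [RingHom.mem_ker, map_sub, hzx]; exact sub_self _
        rw [← hb] at hmem
        obtain ⟨c, hc⟩ := (Submodule.mem_span_range_iff_exists_fun _).mp hmem
        choose c' hc' using fun i => Ideal.Quotient.mk_surjective (ev (c i))
        have hzz : ev z = 0 := by
          have h1 : z ∈ (I ^ (n + 1) • ⊤ : Submodule R (RPow R I r)) := by
            rw [mem_pow_iff_mem_map, ← Ideal.map_pow]; exact hz
          refine Submodule.smul_induction_on h1 (fun a ha y _ => ?_) fun y y' hy hy' =>
            (ev.map_add y y').trans (by rw [hy, hy', add_zero])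
          rw [Algebra.smul_def, map_mul, IsScalarTower.algebraMap_apply R (MvPolynomial (Fin r) R),
            hev, Ideal.Quotient.eq_zero_iff_mem.mpr, zero_mul]
          rw [← Ideal.map_pow]; exact Ideal.mem_map_of_mem _ ha
        have h2 : Ideal.Quotient.mk (JS ^ (n + 1)) (x - ∑ i, c' i * s i) = 0 := by
          have := congrArg ev hc
          rw [map_sub, hev, hzz, sub_zero, map_sum] at this
          rw [map_sub, ← this, map_sum]
          simp [hs, hc', sub_self]
        rw [← sub_add_cancel x (∑ i, c' i * s i)]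
        exact add_mem (Submodule.mem_sup_right (Ideal.Quotient.eq_zero_iff_mem.mp h2))
          (Submodule.mem_sup_left (sum_mem fun i _ => Ideal.mul_mem_left _ _ (Ideal.subset_span ⟨i, rfl⟩)))
      · have key : ∀ (x : MvPolynomial (Fin r) R) (k : RPow R I r),
            k ∈ RingHom.ker φ.toRingHom → Ideal.Quotient.mk (JS ^ (n + 1)) x = ev k →
            x ∈ RingHom.ker f.toRingHom := by
          intro x k hk hxk
          refine Ideal.Quotient.eq_zero_iff_mem.mpr ?_
          have h0 : (algebraMap (MvPolynomial (Fin r) R) (RPow R I r) x - k).val (n + 1) = 0 := by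
            have h00 : (AdicCompletion.evalₐ JS (n + 1)) (algebraMap (MvPolynomial (Fin r) R) (RPow R I r) x - k) = 0 := by
              show ev (algebraMap (MvPolynomial (Fin r) R) (RPow R I r) x - k) = 0
              rw [map_sub, hev, hxk, sub_self]
            exact (AdicCompletion.factor_evalₐ_eq_eval JS _ (by simp)).symm.trans
              ((congrArg _ h00).trans (map_zero _))
          have h1 := hφI _ (completion_mem_pow hI h0)
          rwa [map_sub, show φ k = 0 from hk, sub_zero] at h1
        refine sup_le (Ideal.span_le.mpr ?_) fun x hx => key x 0 (zero_mem _) ?_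
        · rintro _ ⟨i, rfl⟩
          exact key (s i) (b i) (hb ▸ Submodule.subset_span ⟨i, rfl⟩) (hs i)
        · rw [map_zero]; exact Ideal.Quotient.eq_zero_iff_mem.mpr hx
    rw [hk]
    exact Submodule.FG.sup (Submodule.fg_span (Set.finite_range s)) (Ideal.FG.pow (hI.map _))
  · intro h
    haveI : Algebra.FiniteType R (A ⧸ I.map (algebraMap R A)) := by
      haveI := h 0
      refine Algebra.FiniteType.of_surjective
        (Ideal.quotientEquivAlgOfEq R (show (I ^ (0 + 1)).map (algebraMap R A) = I.map (algebraMap R A)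
          by rw [zero_add, pow_one])).toAlgHom (AlgEquiv.surjective _)
    obtain ⟨r, φ, hφ⟩ := topFiniteType_of_finiteType_quotient (A := A) hI
    refine ⟨r, φ, hφ, ?_⟩
    have hP : TopFiniteType R I (RPow R I r) := ⟨r, AlgHom.id R _, Function.surjective_id⟩
    obtain ⟨-, c, K₀, hK₀, -, hAR⟩ := good_of_topFiniteType hR hP (RPow R I r) (RingHom.ker φ.toRingHom)
    let f : MvPolynomial (Fin r) R →ₐ[R] A ⧸ (I ^ (c + 1)).map (algebraMap R A) :=
      (Ideal.Quotient.mkₐ R _).comp (φ.comp (IsScalarTower.toAlgHom R (MvPolynomial (Fin r) R) _))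
    have hφI : ∀ z ∈ (I ^ (c + 1) • ⊤ : Submodule R (RPow R I r)),
        φ z ∈ (I ^ (c + 1)).map (algebraMap R A) := fun z hz => by
      rw [← Submodule.restrictScalars_mem R, ← Ideal.smul_top_eq_map]
      exact Submodule.smul_top_le_comap_smul_top _ φ.toLinearMap hz
    have hf : Function.Surjective f := fun y => by
      obtain ⟨a, rfl⟩ := Ideal.Quotient.mk_surjective y
      obtain ⟨x, rfl⟩ := hφ a
      obtain ⟨s, hs⟩ := completion_dense hI x (c + 1)
      exact ⟨s, (Ideal.Quotient.eq.mpr (show φ x - φ _ ∈ _ by rw [← map_sub]; exact hφI _ hs)).symm⟩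
    haveI := h c
    obtain ⟨l, s, hs⟩ := Submodule.fg_iff_exists_fin_generating_family.mp
      (Algebra.FinitePresentation.ker_fG_of_surjective f hf)
    have hlift : ∀ i, ∃ p ∈ (I ^ (c + 1) • ⊤ : Submodule R (RPow R I r)),
        φ p = φ (algebraMap _ _ (s i)) := fun i => by
      have h1 : φ (algebraMap _ _ (s i)) ∈ (I ^ (c + 1)).map (algebraMap R A) :=
        Ideal.Quotient.eq_zero_iff_mem.mp (show s i ∈ RingHom.ker f.toRingHom from
          hs ▸ Submodule.subset_span ⟨i, rfl⟩)
      rw [← φ.comp_algebraMap, ← Ideal.map_map] at h1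
      obtain ⟨z, hz, hzx⟩ := (Ideal.mem_map_iff_of_surjective φ.toRingHom hφ).mp h1
      exact ⟨z, by rw [mem_pow_iff_mem_map, ← Ideal.map_pow]; exact hz, hzx⟩
    choose p hp hpφ using hlift
    let Bs : Ideal (RPow R I r) := Ideal.span (Set.range fun i => algebraMap _ _ (s i) - p i)
    have hBs : Bs ≤ RingHom.ker φ.toRingHom := Ideal.span_le.mpr <| by
      rintro _ ⟨i, rfl⟩
      show φ (_ - p i) = 0
      rw [map_sub, hpφ, sub_self]
    suffices hle : RingHom.ker φ.toRingHom ≤ Bs by
      rw [le_antisymm hle hBs]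
      exact Submodule.fg_span (Set.finite_range _)
    have step : RingHom.ker φ.toRingHom ≤ Bs ⊔ I.map (algebraMap R _) * RingHom.ker φ.toRingHom := by
      intro x hx
      obtain ⟨x₀, hx₀⟩ := completion_dense hI x (c + 1)
      have h1 : x₀ ∈ RingHom.ker f.toRingHom := Ideal.Quotient.eq_zero_iff_mem.mpr <| by
        have := hφI (x - algebraMap (MvPolynomial (Fin r) R) (RPow R I r) x₀) hx₀
        rw [map_sub, show φ x = 0 from hx, zero_sub] at this
        simpa using neg_mem this
      rw [← hs] at h1
      obtain ⟨q, hq⟩ := (Submodule.mem_span_range_iff_exists_fun _).mp h1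
      let B' : RPow R I r := ∑ i, algebraMap _ _ (q i) * (algebraMap _ _ (s i) - p i)
      have hB' : B' ∈ Bs := sum_mem fun i _ => Ideal.mul_mem_left _ _ (Ideal.subset_span ⟨i, rfl⟩)
      have h2 : x - B' ∈ (I ^ (1 + c) • ⊤ : Submodule R (RPow R I r)) := by
        rw [add_comm 1 c, show x - B' = (x - algebraMap _ _ x₀) + ∑ i, algebraMap _ _ (q i) * p i by
          rw [← hq]
          simp only [B', map_sum, smul_eq_mul, map_mul, mul_sub, Finset.sum_sub_distrib]
          ring]
        refine add_mem hx₀ (sum_mem fun i _ => ?_)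
        rw [mul_comm]
        exact smul_mem_pow (hp i) _
      have h3 := hAR 1 (Submodule.mem_inf.mpr ⟨h2, sub_mem hx (hBs hB')⟩)
      rw [← add_sub_cancel B' x]
      refine Submodule.add_mem_sup hB' ?_
      rw [pow_one] at h3
      refine Submodule.smul_induction_on h3 (fun a ha y hy => ?_) fun y y' hy hy' => add_mem hy hy'
      rw [Algebra.smul_def]
      exact Ideal.mul_mem_mul (Ideal.mem_map_of_mem _ ha) (hK₀ hy)
    have iter : ∀ m, RingHom.ker φ.toRingHom ≤
        Bs ⊔ (I.map (algebraMap R (RPow R I r))) ^ m * RingHom.ker φ.toRingHom := by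
      intro m
      induction m with
      | zero => simp
      | succ m ih =>
        refine ih.trans (sup_le le_sup_left ((Ideal.mul_mono_right step).trans ?_))
        rw [Ideal.mul_sup, ← mul_assoc, ← pow_succ]
        exact sup_le_sup_right Ideal.mul_le_right _
    haveI := isAdicComplete_of_topFiniteType hR hP (RPow R I r ⧸ Bs)
    intro x hx
    refine Ideal.Quotient.eq_zero_iff_mem.mp (eq_zero_of_forall I fun m => ?_)
    obtain ⟨y, hy, z, hz, rfl⟩ := Submodule.mem_sup.mp (iter m hx)
    rw [map_add, Ideal.Quotient.eq_zero_iff_mem.mpr hy, zero_add]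
    exact Submodule.smul_top_le_comap_smul_top _ (Ideal.Quotient.mkₐ R Bs).toLinearMap
      (mem_pow_iff_mem_map.mpr (Ideal.mul_le_left hz))

end Groth.L05.Bosch
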