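import Groth.Agent.L05.Bosch.CompFlat
import Mathlib.RingTheory.Localization.Away.Basic

/-!
# Torsion in the completed chart algebras of an admissible blowing-up
-/

set_option autoImplicit false

open AdicRing TensorProduct

universe u v w

namespace Groth.L05.Bosch

variable {R : Type u} [CommRing R] {I : Ideal R}

/-- The elements of a completion killed by a power of `I` are combinations of such elements of the
algebra. -/
theorem mem_span_of_killed (hI : I.FG) {C : Type u} [CommRing C] [Algebra R C]
    [Module.Flat C (AdicCompletion (I.map (algebraMap R C)) C)] {n : ℕ}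
    {x : AdicCompletion (I.map (algebraMap R C)) C} (hx : ∀ a ∈ I ^ n, a • x = 0) :
    x ∈ Submodule.span (AdicCompletion (I.map (algebraMap R C)) C)
      (algebraMap C (AdicCompletion (I.map (algebraMap R C)) C) '' {c : C | ∀ a ∈ I ^ n, a • c = 0}) := by
  classical
  let Ĉ := AdicCompletion (I.map (algebraMap R C)) C
  obtain ⟨s, g, hg⟩ := Submodule.fg_iff_exists_fin_generating_family.mp (Ideal.FG.pow (n := n) hI)
  let f : C →ₗ[C] (Fin s → C) := LinearMap.pi fun i => LinearMap.mulLeft C (algebraMap R C (g i))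
  have hfx : f.lTensor Ĉ (x ⊗ₜ[C] (1 : C)) = 0 := by
    apply (TensorProduct.piScalarRight C C Ĉ (Fin s)).injective
    rw [map_zero, LinearMap.lTensor_tmul]
    funext i
    have hi : g i ∈ I ^ n := hg ▸ Submodule.subset_span ⟨i, rfl⟩
    simpa [f] using hx (g i) hi
  obtain ⟨y, hy⟩ := ((Module.Flat.lTensor_exact Ĉ (LinearMap.exact_subtype_ker_map f)) _).mp hfx
  rw [show x = TensorProduct.rid C Ĉ (x ⊗ₜ[C] (1 : C)) by simp, ← hy]
  clear hy hfx
  induction y with
  | zero => rw [map_zero, map_zero]; exact zero_mem _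
  | add a b ha hb => rw [map_add, map_add]; exact add_mem ha hb
  | tmul l k =>
    have hk : (k : C) ∈ {c : C | ∀ a ∈ I ^ n, a • c = 0} := fun a ha => by
      rw [← hg] at ha
      obtain ⟨c, rfl⟩ := (Submodule.mem_span_range_iff_exists_fun R).mp ha
      simp only [Finset.sum_smul, smul_assoc]
      refine Finset.sum_eq_zero fun i _ => ?_
      have := congrFun (LinearMap.mem_ker.mp k.2) i
      simp only [f, LinearMap.pi_apply, LinearMap.mulLeft_apply, Pi.zero_apply] at this
      rw [Algebra.smul_def (g i), this, smul_zero]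
    rw [LinearMap.lTensor_tmul, TensorProduct.rid_tmul, Submodule.subtype_apply, Algebra.smul_def, mul_comm]
    exact Submodule.smul_mem _ l (Submodule.subset_span ⟨_, hk, rfl⟩)

/-- In the chart algebra, the ideal is generated by `f i`. -/
theorem span_map_le_chart {A : Type u} [CommRing A] {ι : Type} (f : ι → A) (i : ι) :
    (Ideal.span (Set.range f)).map (algebraMap A (chartAlg f i)) ≤
      Ideal.span {algebraMap A (chartAlg f i) (f i)} := by
  classical
  rw [Ideal.map_span, Ideal.span_le]
  rintro _ ⟨_, ⟨j, rfl⟩, rfl⟩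
  by_cases h : j = i
  · subst h; exact Ideal.mem_span_singleton_self _
  · refine Ideal.mem_span_singleton'.mpr ⟨Ideal.Quotient.mk _ (MvPolynomial.X ⟨j, h⟩), ?_⟩
    rw [IsScalarTower.algebraMap_apply A (MvPolynomial {j // j ≠ i} A) (chartAlg f i),
      IsScalarTower.algebraMap_apply A (MvPolynomial {j // j ≠ i} A) (chartAlg f i), MvPolynomial.algebraMap_eq,
      Ideal.Quotient.algebraMap_eq, ← map_mul, Ideal.Quotient.eq]
    refine Ideal.subset_span ⟨⟨j, h⟩, ?_⟩
    ring

theorem chart_exists_clear {A : Type u} [CommRing A] {ι : Type} (f : ι → A) (i : ι) (c : chartAlg f i) :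
    ∃ (N : ℕ) (a : A), algebraMap A (chartAlg f i) (f i) ^ N * c = algebraMap A (chartAlg f i) a := by
  obtain ⟨p, rfl⟩ := Ideal.Quotient.mk_surjective c
  induction p using MvPolynomial.induction_on with
  | C a => exact ⟨0, a, by rw [pow_zero, one_mul]; rfl⟩
  | add p q hp hq =>
    obtain ⟨N, a, ha⟩ := hp
    obtain ⟨N', b, hb⟩ := hq
    refine ⟨N + N', f i ^ N' * a + f i ^ N * b, ?_⟩
    rw [map_add, map_add, map_mul, map_mul, map_pow, map_pow, ← ha, ← hb, pow_add]
    ring
  | mul_X p j hp =>
    obtain ⟨N, a, ha⟩ := hp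
    refine ⟨N + 1, a * f j.1, ?_⟩
    have hj : algebraMap A (chartAlg f i) (f i) * Ideal.Quotient.mk _ (MvPolynomial.X j) =
        algebraMap A (chartAlg f i) (f j.1) := by
      rw [IsScalarTower.algebraMap_apply A (MvPolynomial {j // j ≠ i} A) (chartAlg f i),
        IsScalarTower.algebraMap_apply A (MvPolynomial {j // j ≠ i} A) (chartAlg f i), MvPolynomial.algebraMap_eq,
        Ideal.Quotient.algebraMap_eq, ← map_mul, Ideal.Quotient.eq]
      exact Ideal.subset_span ⟨j, rfl⟩
    rw [map_mul, map_mul, ← ha, ← hj, pow_succ]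
    ring

theorem powTorsion_iff (hR : IsBase R I) {A : Type u} [CommRing A] [Algebra R A]
    (hA : TopFiniteType R I A) (hT : NoPowTorsion I A) {ι : Type} [Finite ι] (f : ι → A) (k : ℕ)
    (hopen : (I ^ k).map (algebraMap R A) ≤ Ideal.span (Set.range f)) (i : ι)
    (x : chartCompl I f i) :
    (∃ n : ℕ, ∀ a ∈ I ^ n, a • x = 0) ↔
      ∃ n : ℕ, algebraMap A (chartCompl I f i) (f i) ^ n * x = 0 := by
  classical
  haveI : Fintype ι := Fintype.ofFinite ι
  haveI : Algebra.FiniteType A (chartAlg f i) :=
    Algebra.FiniteType.of_surjective (Ideal.Quotient.mkₐ A _) (Ideal.Quotient.mkₐ_surjective A _)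
  have hI := isBase_fg hR
  haveI := flat_completion hI (good_of_finiteType hR hA (chartAlg f i))
  let C₀ := chartAlg f i
  constructor
  · rintro ⟨n, hn⟩
    refine Submodule.span_induction (p := fun y _ => ∃ m, algebraMap A (chartCompl I f i) (f i) ^ m * y = 0)
      ?_ ⟨0, mul_zero _⟩ ?_ ?_ (mem_span_of_killed hI hn)
    · rintro _ ⟨c, hc, rfl⟩
      obtain ⟨N, a, ha⟩ := chart_exists_clear f i c
      -- the image of `a` in `A[1/f i]` vanishes
      let J := Ideal.span (Set.range fun j : {j : ι // j ≠ i} =>
        MvPolynomial.C (f i) * MvPolynomial.X j - MvPolynomial.C (f j.1))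
      let ev : C₀ →ₐ[A] Localization.Away (f i) := Ideal.Quotient.liftₐ J
        (MvPolynomial.aeval fun j : {j // j ≠ i} =>
          IsLocalization.mk' (Localization.Away (f i)) (f j.1)
            (⟨f i, Submonoid.mem_powers _⟩ : Submonoid.powers (f i))) <| by
          intro p hp
          refine (Ideal.span_le (I := RingHom.ker (MvPolynomial.aeval fun j : {j // j ≠ i} =>
            IsLocalization.mk' (Localization.Away (f i)) (f j.1)
              (⟨f i, Submonoid.mem_powers _⟩ : Submonoid.powers (f i))))).mpr ?_ hp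
          rintro _ ⟨j, rfl⟩
          simp [IsLocalization.mk'_spec']
      have hTL : ∀ y : Localization.Away (f i), (∀ b ∈ I ^ n, b • y = 0) → y = 0 := fun y hy => by
        haveI : Module.Flat A (Localization.Away (f i)) := IsLocalization.flat _ (Submonoid.powers (f i))
        refine noPowTorsion_of_flat (hI.map (algebraMap R A)) (fun z l hz => hT z l fun b hb => ?_) _ y n
          fun b hb => ?_
        · rw [← algebraMap_smul A b z]
          exact hz _ (by rw [← Ideal.map_pow]; exact Ideal.mem_map_of_mem _ hb)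
        · rw [← Ideal.map_pow] at hb
          refine Submodule.span_induction (fun d hd => ?_) (zero_smul A y) (fun p q _ _ hp hq => ?_)
            (fun p q _ hq => ?_) hb
          · obtain ⟨r, hr, rfl⟩ := hd
            rw [algebraMap_smul]
            exact hy r hr
          · rw [add_smul, hp, hq, add_zero]
          · rw [smul_assoc, hq, smul_zero]
      have hevc : ev c = 0 := hTL _ fun b hb => by
        rw [← algebraMap_smul A b (ev c), ← map_smul, algebraMap_smul, hc b hb, map_zero]
      have ha0 : algebraMap A (Localization.Away (f i)) a = 0 := by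
        rw [← ev.commutes, ← ha, map_mul, hevc, mul_zero]
      obtain ⟨⟨_, m, rfl⟩, hm⟩ := (IsLocalization.map_eq_zero_iff (Submonoid.powers (f i))
        (Localization.Away (f i)) a).mp ha0
      refine ⟨m + N, ?_⟩
      rw [IsScalarTower.algebraMap_apply A C₀ (chartCompl I f i), ← map_pow, ← map_mul, pow_add,
        mul_assoc, ha, ← map_pow, ← map_mul, hm, map_zero, map_zero]
    · rintro p q - - ⟨m, hm⟩ ⟨m', hm'⟩
      exact ⟨m + m', by rw [mul_add, pow_add, mul_assoc, mul_assoc, hm', mul_zero, mul_left_comm, hm, mul_zero, add_zero]⟩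
    · rintro b p - ⟨m, hm⟩
      exact ⟨m, by rw [smul_eq_mul, mul_left_comm, hm, mul_zero]⟩
  · rintro ⟨n, hn⟩
    refine ⟨k * n, fun b hb => ?_⟩
    have h1 : algebraMap R (chartCompl I f i) b ∈
        Ideal.span {algebraMap A (chartCompl I f i) (f i) ^ n} := by
      have hle : (I ^ k).map (algebraMap R (chartCompl I f i)) ≤
          Ideal.span {algebraMap A (chartCompl I f i) (f i)} := by
        refine Ideal.map_le_iff_le_comap.mpr fun c hc => ?_
        have hc' := span_map_le_chart f i (Ideal.mem_map_of_mem _ (hopen (Ideal.mem_map_of_mem _ hc)))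
        obtain ⟨d, hd⟩ := Ideal.mem_span_singleton'.mp hc'
        rw [Ideal.mem_comap, IsScalarTower.algebraMap_apply R C₀ (chartCompl I f i),
          IsScalarTower.algebraMap_apply R A C₀, ← hd, map_mul,
          ← IsScalarTower.algebraMap_apply A C₀ (chartCompl I f i)]
        exact Ideal.mem_span_singleton'.mpr ⟨_, rfl⟩
      have := Ideal.pow_right_mono hle n
      rw [Ideal.span_singleton_pow, ← Ideal.map_pow, ← pow_mul] at this
      exact this (Ideal.mem_map_of_mem _ hb)
    obtain ⟨d, hd⟩ := Ideal.mem_span_singleton'.mp h1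
    rw [Algebra.smul_def, ← hd, mul_assoc, hn, mul_zero]

end Groth.L05.Bosch
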