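import Groth.Agent.L05.Bosch.Apps
import Mathlib.RingTheory.Flat.Tensor
import Mathlib.RingTheory.Flat.FaithfullyFlat.Basic
import Mathlib.RingTheory.TensorProduct.Finite
import Mathlib.RingTheory.Localization.Away.AdjoinRoot

/-!
# Flatness of completions and the flatness criterion over truncations
-/

set_option autoImplicit false

open AdicRing TensorProduct

universe u v w

namespace Groth.L05.Bosch

variable {R : Type u} [CommRing R] {I : Ideal R}

theorem exists_tmul_sum {C L M : Type u} [CommRing C] [AddCommGroup L] [Module C L] [AddCommGroup M]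
    [Module C M] {r : ℕ} {g : Fin r → M} (hg : Submodule.span C (Set.range g) = ⊤) (w : L ⊗[C] M) :
    ∃ z : Fin r → L, w = ∑ i, z i ⊗ₜ[C] g i := by
  induction w with
  | zero => exact ⟨0, by simp⟩
  | tmul x m =>
    obtain ⟨c, rfl⟩ := (Submodule.mem_span_range_iff_exists_fun C).mp (hg ▸ Submodule.mem_top : m ∈ _)
    exact ⟨fun i => c i • x, by simp [tmul_sum, smul_tmul]⟩
  | add x y hx hy =>
    obtain ⟨z, rfl⟩ := hx
    obtain ⟨z', rfl⟩ := hy
    exact ⟨z + z', by simp [add_tmul, Finset.sum_add_distrib]⟩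

theorem injective_ofTensorProduct (hI : I.FG) {C : Type u} [CommRing C] [Algebra R C] (hG : Good R I C)
    (M : Type u) [AddCommGroup M] [Module C M] [Module.Finite C M] :
    Function.Injective (AdicCompletion.ofTensorProduct (I.map (algebraMap R C)) M) := by
  classical
  let J := I.map (algebraMap R C)
  refine (injective_iff_map_eq_zero _).mpr fun w hw => ?_
  obtain ⟨r, g, hg⟩ := Module.Finite.exists_fin (R := C) (M := M)
  obtain ⟨z, rfl⟩ := exists_tmul_sum hg w
  let π : (Fin r → C) →ₗ[C] M := Fintype.linearCombination C g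
  have hπ : LinearMap.range π = ⊤ := by rw [Fintype.range_linearCombination, hg]
  choose s hs using fun n i => Submodule.Quotient.mk_surjective _ ((z i).val n)
  have hπs : ∀ n, π (s n) ∈ (J ^ n • ⊤ : Submodule C M) := fun n => by
    have h : (AdicCompletion.ofTensorProduct J M (∑ i, z i ⊗ₜ[C] g i)).val n = 0 := by
      rw [hw, AdicCompletion.val_zero_apply]
    rw [map_sum, AdicCompletion.val_sum_apply] at h
    rw [← Submodule.Quotient.mk_eq_zero, Fintype.linearCombination_apply, ← Submodule.mkQ_apply, map_sum, ← h]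
    refine Finset.sum_congr rfl fun i _ => ?_
    rw [AdicCompletion.ofTensorProduct_tmul, AdicCompletion.smul_eval, ← hs n i]
    rfl
  have hk : ∀ n, ∃ k : Fin r → C, k ∈ LinearMap.ker π ∧ s n - k ∈ (J ^ n • ⊤ : Submodule C (Fin r → C)) := by
    intro n
    have h := hπs n
    rw [← hπ, ← Submodule.map_top, ← Submodule.map_smul''] at h
    obtain ⟨e, he, hee⟩ := h
    exact ⟨s n - e, LinearMap.sub_mem_ker_iff.mpr hee.symm, by rwa [sub_sub_cancel]⟩
  choose k hkN hks using hk
  obtain ⟨-, c, K, hKN, hKfg, hAR⟩ := hG (Fin r → C) (LinearMap.ker π)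
  obtain ⟨q, u, hu⟩ := Submodule.fg_iff_exists_fin_generating_family.mp hKfg
  have hJR : ∀ {n : ℕ} {x : Fin r → C}, x ∈ (J ^ n • ⊤ : Submodule C (Fin r → C)) →
      x ∈ (I ^ n • ⊤ : Submodule R (Fin r → C)) := fun {n x} hx => by
    rwa [← Submodule.restrictScalars_top R C (Fin r → C), ← Ideal.smul_restrictScalars,
      Submodule.restrictScalars_mem, Ideal.map_pow]
  have hpi : ∀ {n : ℕ} {x : Fin r → C}, x ∈ (J ^ n • ⊤ : Submodule C (Fin r → C)) → ∀ i, x i ∈ J ^ n := by
    intro n x hx i
    have := Submodule.smul_top_le_comap_smul_top (J ^ n) (LinearMap.proj i : (Fin r → C) →ₗ[C] C) hx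
    simpa using this
  have hzs : ∀ n i, z i - algebraMap C (AdicCompletion J C) (k n i) ∈
      (I ^ n • ⊤ : Submodule R (AdicCompletion J C)) := fun n i => by
    refine completion_mem_pow hI ?_
    rw [AdicCompletion.val_sub_apply, ← hs n i, AdicCompletion.algebraMap_apply, AdicCompletion.of_apply,
      Submodule.mkQ_apply, ← Submodule.Quotient.mk_sub, Submodule.Quotient.mk_eq_zero]
    simpa using hpi (hks n) i
  have hd : ∀ l, k (c + (l + 1)) - k (c + l) ∈
      I ^ l • (Submodule.span C (Set.range u)).restrictScalars R := fun l => by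
    rw [hu]
    refine hAR l (Submodule.mem_inf.mpr ⟨?_, sub_mem (hkN _) (hkN _)⟩)
    rw [add_comm l c]
    refine hJR ?_
    have e : k (c + (l + 1)) - k (c + l) = -(s (c + (l + 1)) - k (c + (l + 1))) +
        (s (c + l) - k (c + l)) + (s (c + (l + 1)) - s (c + l)) := by abel
    rw [e]
    refine add_mem (add_mem (neg_mem (Submodule.pow_smul_top_le J _ (by omega) (hks _))) (hks _)) ?_
    rw [pi_eq_sum_univ (s (c + (l + 1)) - s (c + l))]
    refine sum_mem fun i _ => Submodule.smul_mem_smul ?_ Submodule.mem_top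
    have h := (z i).property (show c + l ≤ c + (l + 1) by omega)
    rw [← hs, ← hs] at h
    have h' : Submodule.Quotient.mk (p := (J ^ (c + l) • ⊤ : Submodule C C)) (s (c + (l + 1)) i) =
        Submodule.Quotient.mk (s (c + l) i) := h
    simpa using (Submodule.Quotient.eq _).mp h'
  choose a ha hda using fun l => exists_coeff I u (hd l)
  haveI := completion_isAdicComplete I C hI
  have haC : ∀ j l, algebraMap C (AdicCompletion J C) (a l j) ∈
      (I ^ l • ⊤ : Submodule R (AdicCompletion J C)) := fun j l =>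
    Submodule.smul_top_le_comap_smul_top _ (IsScalarTower.toAlgHom R C _).toLinearMap (ha l j)
  choose L hL using fun j => exists_series I (fun l => algebraMap C (AdicCompletion J C) (a l j)) (haC j)
  have hkk : ∀ n, k (c + n) = k c + ∑ j, (∑ l ∈ Finset.range n, a l j) • u j := fun n => by
    induction n with
    | zero => simp
    | succ n ih =>
      rw [← sub_add_cancel (k (c + (n + 1))) (k (c + n)), hda n, ih]
      simp only [Finset.sum_range_succ, add_smul, Finset.sum_add_distrib]
      abel
  have hz : ∀ i, z i = algebraMap C (AdicCompletion J C) (k c i) + ∑ j, u j i • L j := fun i => by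
    refine sub_eq_zero.mp (eq_zero_of_forall I fun n => ?_)
    have e : z i - (algebraMap C (AdicCompletion J C) (k c i) + ∑ j, u j i • L j) =
        (z i - algebraMap C (AdicCompletion J C) (k (c + n) i)) -
          ∑ j, u j i • (L j - ∑ l ∈ Finset.range n, algebraMap C (AdicCompletion J C) (a l j)) := by
      have hj : ∀ j, algebraMap C (AdicCompletion J C) (((∑ l ∈ Finset.range n, a l j) • u j) i) =
          u j i • ∑ l ∈ Finset.range n, algebraMap C (AdicCompletion J C) (a l j) := fun j => by
        rw [Pi.smul_apply, smul_eq_mul, map_mul, map_sum, Algebra.smul_def, mul_comm]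
      rw [hkk n]
      simp only [Pi.add_apply, Finset.sum_apply, map_add, map_sum, hj, smul_sub, Finset.sum_sub_distrib]
      abel
    rw [e]
    refine sub_mem (Submodule.pow_smul_top_le I _ (Nat.le_add_left n c) (hzs (c + n) i))
      (sum_mem fun j _ => ?_)
    rw [Algebra.smul_def, mul_comm]
    exact smul_mem_pow (hL j n) _
  have hsum : ∀ x ∈ LinearMap.ker π, ∀ y : AdicCompletion J C, ∑ i, (x i • y) ⊗ₜ[C] g i = 0 :=
    fun x hx y => by
      simp_rw [smul_tmul, ← tmul_sum]
      rw [← Fintype.linearCombination_apply, show Fintype.linearCombination C g x = 0 from hx, tmul_zero]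
  simp_rw [hz, add_tmul, sum_tmul, Finset.sum_add_distrib]
  rw [Finset.sum_comm, Finset.sum_eq_zero fun j _ =>
    hsum (u j) (hKN (hu ▸ Submodule.subset_span ⟨j, rfl⟩)) (L j), add_zero]
  simpa [Algebra.algebraMap_eq_smul_one] using hsum (k c) (hkN c) 1

theorem bijective_ofTensorProduct (hI : I.FG) {C : Type u} [CommRing C] [Algebra R C] (hG : Good R I C)
    (M : Type u) [AddCommGroup M] [Module C M] [Module.Finite C M] :
    Function.Bijective (AdicCompletion.ofTensorProduct (I.map (algebraMap R C)) M) :=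
  ⟨injective_ofTensorProduct hI hG M, AdicCompletion.ofTensorProduct_surjective_of_finite _ M⟩

theorem flat_completion (hI : I.FG) {C : Type u} [CommRing C] [Algebra R C] (hG : Good R I C) :
    Module.Flat C (AdicCompletion (I.map (algebraMap R C)) C) := by
  let J := I.map (algebraMap R C)
  refine Module.Flat.iff_lTensor_injective.mpr fun J' hJ' => ?_
  haveI : Module.Finite C J' := Module.Finite.of_fg hJ'
  obtain ⟨-, c, K, hKN, -, hAR⟩ := hG C J'
  have hmap : Function.Injective (AdicCompletion.map J J'.subtype) := by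
    refine (injective_iff_map_eq_zero _).mpr fun x hx => AdicCompletion.ext fun m => ?_
    obtain ⟨a, ha⟩ := Submodule.Quotient.mk_surjective _ (x.val (m + c))
    have h0 : (AdicCompletion.map J J'.subtype x).val (m + c) = 0 := by
      rw [hx, AdicCompletion.val_zero_apply]
    rw [AdicCompletion.map_val_apply, ← ha] at h0
    have h1 : (a : C) ∈ (I ^ (m + c) • ⊤ : Submodule R C) := by
      have : (a : C) ∈ (J ^ (m + c) • ⊤ : Submodule C C) := (Submodule.Quotient.mk_eq_zero _).mp h0
      rw [mem_pow_iff_mem_map]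
      simpa using this
    have h2 : (a : C) ∈ I ^ m • K.restrictScalars R := hAR m (Submodule.mem_inf.mpr ⟨h1, a.2⟩)
    have h3 : ∀ y ∈ I ^ m • K.restrictScalars R, ∃ hy : y ∈ J',
        (⟨y, hy⟩ : J') ∈ (J ^ m • ⊤ : Submodule C J') := fun y hy => by
      refine Submodule.smul_induction_on hy (fun b hb w hw => ?_) ?_
      · refine ⟨Submodule.smul_of_tower_mem J' b (hKN hw), ?_⟩
        have : (⟨b • w, Submodule.smul_of_tower_mem J' b (hKN hw)⟩ : J') =
            algebraMap R C b • (⟨w, hKN hw⟩ : J') := Subtype.ext (algebraMap_smul C b w).symm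
        rw [this]
        exact Submodule.smul_mem_smul (by rw [← Ideal.map_pow]; exact Ideal.mem_map_of_mem _ hb)
          Submodule.mem_top
      · rintro y y' ⟨hy, hy'⟩ ⟨hy₂, hy₂'⟩
        exact ⟨add_mem hy hy₂, add_mem hy' hy₂'⟩
    rw [AdicCompletion.val_zero_apply, ← x.property (Nat.le_add_right m c), ← ha]
    exact (Submodule.Quotient.mk_eq_zero _).mpr (h3 _ h2).2
  refine (injective_iff_map_eq_zero _).mpr fun w hw => ?_
  refine (injective_iff_map_eq_zero _).mp (injective_ofTensorProduct hI hG J') w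
    ((injective_iff_map_eq_zero _).mp hmap _ ?_)
  rw [← LinearMap.comp_apply, AdicCompletion.ofTensorProduct_naturality, LinearMap.comp_apply]
  exact (congrArg _ hw).trans (map_zero _)

theorem flat_iff_trunc (hR : IsBase R I) {A : Type u} [CommRing A] [Algebra R A]
    (hA : TopFiniteType R I A) {B : Type u} [CommRing B] [Algebra R B] [Algebra A B]
    [IsScalarTower R A B] (hB : TopFiniteType R I B)
    (M : Type u) [AddCommGroup M] [Module B M] [Module A M] [IsScalarTower A B M] [Module.Finite B M] :
    Module.Flat A M ↔ ∀ n : ℕ, Module.Flat (trunc A I n) (trunc A I n ⊗[A] M) := by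
  refine ⟨fun _ n => inferInstance, fun h => Module.Flat.iff_lTensor_injective.mpr fun J hJ => ?_⟩
  letI : Module R M := Module.compHom M (algebraMap R B)
  haveI : IsScalarTower R B M := IsScalarTower.of_algebraMap_smul fun _ _ => rfl
  haveI : IsScalarTower R A M := IsScalarTower.of_algebraMap_smul fun x y => by
    rw [← algebraMap_smul B (algebraMap R A x) y, ← IsScalarTower.algebraMap_apply]; rfl
  haveI : Module.Finite A J := Module.Finite.of_fg hJ
  haveI : Module.Finite B (M ⊗[A] J) := by
    classical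
    obtain ⟨r, g, hg⟩ := Module.Finite.exists_fin (R := B) (M := M)
    obtain ⟨l, e, he⟩ := Module.Finite.exists_fin (R := A) (M := J)
    refine ⟨⟨Finset.univ.image fun p : Fin r × Fin l => g p.1 ⊗ₜ[A] e p.2, eq_top_iff.mpr fun z _ => ?_⟩⟩
    obtain ⟨y, rfl⟩ := exists_tmul_sum (L := M) he z
    refine sum_mem fun j _ => ?_
    obtain ⟨b, hb⟩ := (Submodule.mem_span_range_iff_exists_fun B).mp (hg ▸ Submodule.mem_top : y j ∈ _)
    rw [← hb, sum_tmul]
    refine sum_mem fun i _ => ?_
    rw [← smul_tmul']
    exact Submodule.smul_mem _ _ (Submodule.subset_span (by simp))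
  haveI := isAdicComplete_of_topFiniteType hR hB (M ⊗[A] J)
  refine (injective_iff_map_eq_zero _).mpr fun z hz => eq_zero_of_forall I fun m => ?_
  obtain ⟨-, c, K, hKJ, -, hAR⟩ := good_of_topFiniteType hR hA A J
  let A' := trunc A I (m + c)
  let incl : J.map (Ideal.Quotient.mk ((I ^ (m + c + 1)).map (algebraMap R A))) →ₗ[A'] A' :=
    Submodule.subtype _
  let p : J →ₗ[A] J.map (Ideal.Quotient.mk ((I ^ (m + c + 1)).map (algebraMap R A))) :=
    { toFun := fun x => ⟨Ideal.Quotient.mk _ x.1, Ideal.mem_map_of_mem _ x.2⟩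
      map_add' := fun x y => Subtype.ext (map_add _ _ _)
      map_smul' := fun a x => Subtype.ext (map_mul _ _ _) }
  have hp : Function.Surjective p := fun ⟨y, hy⟩ => by
    obtain ⟨x, hx, rfl⟩ := (Ideal.mem_map_iff_of_surjective _ Ideal.Quotient.mk_surjective).mp hy
    exact ⟨⟨x, hx⟩, rfl⟩
  haveI : Module.Flat A' (A' ⊗[A] M) := h (m + c)
  have hinj := Module.Flat.rTensor_preserves_injective_linearMap (M := A' ⊗[A] M) incl Subtype.val_injective
  have hnat : ∀ x, (incl.restrictScalars A).rTensor M
      (AlgebraTensorModule.cancelBaseChange A A' A' _ M x) =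
      AlgebraTensorModule.cancelBaseChange A A' A' A' M (incl.rTensor (A' ⊗[A] M) x) := fun x => by
    induction x with
    | zero => simp
    | add x y hx hy => simp only [map_add, hx, hy]
    | tmul j y =>
      induction y with
      | zero => simp
      | add x y hx hy => simp only [tmul_add, map_add, hx, hy]
      | tmul a m => simp [incl]
  have hinj' : Function.Injective ((incl.restrictScalars A).rTensor M) := fun x y hxy => by
    obtain ⟨x', rfl⟩ := (AlgebraTensorModule.cancelBaseChange A A' A' _ M).surjective x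
    obtain ⟨y', rfl⟩ := (AlgebraTensorModule.cancelBaseChange A A' A' _ M).surjective y
    rw [hnat, hnat] at hxy
    rw [hinj ((AlgebraTensorModule.cancelBaseChange A A' A' A' M).injective hxy)]
  have hinj'' : Function.Injective ((incl.restrictScalars A).lTensor M) :=
    (LinearMap.lTensor_inj_iff_rTensor_inj M (incl.restrictScalars A)).mpr hinj'
  have hpz : p.lTensor M z = 0 := hinj'' <| by
    rw [map_zero, ← LinearMap.comp_apply, ← LinearMap.lTensor_comp,
      show (incl.restrictScalars A) ∘ₗ p = (Algebra.linearMap A A') ∘ₗ J.subtype from LinearMap.ext fun _ => rfl,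
      LinearMap.lTensor_comp, LinearMap.comp_apply, hz, map_zero]
  obtain ⟨y, rfl⟩ := ((lTensor_exact M (LinearMap.exact_subtype_ker_map p) hp) z).mp hpz
  clear hz hpz
  induction y with
  | zero => rw [map_zero]; exact zero_mem _
  | add x y hx hy => rw [map_add]; exact add_mem hx hy
  | tmul m' x =>
    have h1 : (x.1.1 : A) ∈ (I ^ (m + c + 1)).map (algebraMap R A) :=
      Ideal.Quotient.eq_zero_iff_mem.mp (congrArg Subtype.val (LinearMap.mem_ker.mp x.2))
    have h2 : (x.1.1 : A) ∈ I ^ m • J.restrictScalars R := by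
      have hle : K.restrictScalars R ≤ J.restrictScalars R := fun y hy => hKJ hy
      refine Submodule.smul_mono le_rfl hle (hAR m (Submodule.mem_inf.mpr ⟨?_, x.1.2⟩))
      refine Submodule.pow_smul_top_le I A (Nat.le_succ (m + c)) ?_
      rw [mem_pow_iff_mem_map, ← Ideal.map_pow]
      exact h1
    have h3 : ∀ y ∈ I ^ m • J.restrictScalars R, ∃ hy : y ∈ J,
        m' ⊗ₜ[A] (⟨y, hy⟩ : J) ∈ (I ^ m • ⊤ : Submodule R (M ⊗[A] J)) := fun y hy => by
      refine Submodule.smul_induction_on hy (fun b hb w hw => ?_) ?_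
      · refine ⟨Submodule.smul_of_tower_mem J b hw, ?_⟩
        have : m' ⊗ₜ[A] (⟨b • w, Submodule.smul_of_tower_mem J b hw⟩ : J) =
            b • (m' ⊗ₜ[A] (⟨w, hw⟩ : J)) := by
          rw [smul_tmul', ← algebraMap_smul A b m', smul_tmul]
          congr 1
          exact Subtype.ext (algebraMap_smul A b w).symm
        rw [this]
        exact Submodule.smul_mem_smul hb Submodule.mem_top
      · rintro y y' ⟨hy, hy'⟩ ⟨hy₂, hy₂'⟩
        exact ⟨add_mem hy hy₂, by rw [show (⟨y + y', _⟩ : J) = ⟨y, hy⟩ + ⟨y', hy₂⟩ from rfl, tmul_add]; exact add_mem hy' hy₂'⟩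
    exact (h3 _ h2).2

theorem faithfullyFlat_iff_trunc (hR : IsBase R I) {A : Type u} [CommRing A] [Algebra R A]
    (hA : TopFiniteType R I A) {B : Type u} [CommRing B] [Algebra R B] [Algebra A B]
    [IsScalarTower R A B] (hB : TopFiniteType R I B)
    (M : Type u) [AddCommGroup M] [Module B M] [Module A M] [IsScalarTower A B M] [Module.Finite B M] :
    Module.FaithfullyFlat A M ↔
      ∀ n : ℕ, Module.FaithfullyFlat (trunc A I n) (trunc A I n ⊗[A] M) := by
  refine ⟨fun _ n => inferInstance, fun h => ?_⟩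
  haveI : Module.Flat A M := (flat_iff_trunc hR hA hB M).mpr fun n => (h n).toFlat
  refine { submodule_ne_top := fun 𝔪 h𝔪 htop => ?_ }
  haveI := isAdicComplete_map_of_topFiniteType hR hA
  have hle : (I ^ (0 + 1)).map (algebraMap R A) ≤ 𝔪 := by
    rw [zero_add, pow_one]
    exact (IsAdicComplete.le_jacobson_bot (I.map (algebraMap R A))).trans
      (sInf_le ⟨bot_le, h𝔪⟩)
  have hmax : (𝔪.map (Ideal.Quotient.mk ((I ^ (0 + 1)).map (algebraMap R A)))).IsMaximal :=
    (Ideal.map_eq_top_or_isMaximal_of_surjective _ Ideal.Quotient.mk_surjective h𝔪).resolve_left fun h' =>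
      h𝔪.ne_top (by
        have := congrArg (Ideal.comap (Ideal.Quotient.mk ((I ^ (0 + 1)).map (algebraMap R A)))) h'
        rwa [Ideal.comap_map_of_surjective _ Ideal.Quotient.mk_surjective, Ideal.comap_top,
          ← RingHom.ker_eq_comap_bot, Ideal.mk_ker, sup_eq_left.mpr hle] at this)
  refine (h 0).submodule_ne_top hmax ?_
  refine Submodule.eq_top_iff'.mpr fun x => ?_
  induction x with
  | zero => exact zero_mem _
  | add x y hx hy => exact add_mem hx hy
  | tmul a m =>
    have hm : m ∈ 𝔪 • (⊤ : Submodule A M) := by rw [htop]; exact Submodule.mem_top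
    refine Submodule.smul_induction_on hm (fun b hb y _ => ?_) fun y y' hy hy' => by
      rw [tmul_add]; exact add_mem hy hy'
    rw [tmul_smul, ← algebraMap_smul (trunc A I 0) b]
    exact Submodule.smul_mem_smul (Ideal.mem_map_of_mem _ hb) Submodule.mem_top

theorem flat_cloc (hR : IsBase R I) {A : Type u} [CommRing A] [Algebra R A]
    (hA : TopFiniteType R I A) (f : A) : Module.Flat A (CLoc I f) := by
  haveI : Algebra.FiniteType A (Localization.Away f) :=
    haveI := IsLocalization.Away.finitePresentation f (S := Localization.Away f)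
    inferInstance
  haveI := flat_completion (isBase_fg hR) (good_of_finiteType hR hA (Localization.Away f))
  haveI : Module.Flat A (Localization.Away f) := IsLocalization.flat _ (Submonoid.powers f)
  exact Module.Flat.trans A (Localization.Away f) (CLoc I f)

theorem faithfullyFlat_pi_cloc (hR : IsBase R I) {A : Type u} [CommRing A] [Algebra R A]
    (hA : TopFiniteType R I A) {r : ℕ} (f : Fin r → A) (hf : Ideal.span (Set.range f) = ⊤) :
    Module.FaithfullyFlat A (∀ i, CLoc I (f i)) := by
  have hflat := fun i => flat_cloc hR hA (f i)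
  classical
  haveI : Module.Flat A (∀ i, CLoc I (f i)) :=
    Module.Flat.of_linearEquiv (DirectSum.linearEquivFunOnFintype A (Fin r) fun i => CLoc I (f i)).symm
  refine { submodule_ne_top := fun 𝔪 h𝔪 htop => ?_ }
  haveI := isAdicComplete_map_of_topFiniteType hR hA
  have hle : I.map (algebraMap R A) ≤ 𝔪 :=
    (IsAdicComplete.le_jacobson_bot (I.map (algebraMap R A))).trans (sInf_le ⟨bot_le, h𝔪⟩)
  obtain ⟨i, hi⟩ : ∃ i, f i ∉ 𝔪 := by
    by_contra hall
    push Not at hall
    exact h𝔪.ne_top (top_le_iff.mp (hf ▸ Ideal.span_le.mpr (Set.range_subset_iff.mpr hall)))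
  let φ : A →+* A ⧸ 𝔪 := Ideal.Quotient.mk 𝔪
  letI := Ideal.Quotient.field 𝔪
  let ψ : Localization.Away (f i) →+* A ⧸ 𝔪 := IsLocalization.Away.lift (f i) (g := φ)
    (Ne.isUnit fun h => hi (Ideal.Quotient.eq_zero_iff_mem.mp h))
  let θ : CLoc I (f i) →+* A ⧸ 𝔪 := (Ideal.Quotient.lift (I.map (algebraMap R (Localization.Away (f i)))) ψ
    (fun x hx => by
      rw [← RingHom.mem_ker]
      refine (Ideal.map_le_iff_le_comap.mpr ?_) hx
      intro y hy
      rw [Ideal.mem_comap, RingHom.mem_ker, IsScalarTower.algebraMap_apply R A (Localization.Away (f i))]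
      simp only [ψ, IsLocalization.Away.lift_eq]
      exact Ideal.Quotient.eq_zero_iff_mem.mpr (hle (Ideal.mem_map_of_mem _ hy)))).comp
    (AdicCompletion.evalOneₐ (I.map (algebraMap R (Localization.Away (f i))))).toRingHom
  have hθ : ∀ a : A, θ (algebraMap A (CLoc I (f i)) a) = φ a := fun a => by
    rw [IsScalarTower.algebraMap_apply A (Localization.Away (f i)) (CLoc I (f i))]
    simp only [θ, RingHom.comp_apply, AlgHom.toRingHom_eq_coe, RingHom.coe_coe]
    erw [AlgHom.commutes]
    exact IsLocalization.Away.lift_eq (f i) (Ne.isUnit fun h => hi (Ideal.Quotient.eq_zero_iff_mem.mp h)) a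
  have h1 : (Pi.single i 1 : ∀ j, CLoc I (f j)) ∈
      𝔪 • (⊤ : Submodule A (∀ j, CLoc I (f j))) := by rw [htop]; exact Submodule.mem_top
  have h2 : ∀ x ∈ 𝔪 • (⊤ : Submodule A (∀ j, CLoc I (f j))), θ (x i) = 0 := fun x hx => by
    refine Submodule.smul_induction_on hx (fun a ha y _ => ?_) fun y y' hy hy' => by
      rw [Pi.add_apply, map_add, hy, hy', add_zero]
    rw [Pi.smul_apply, Algebra.smul_def, map_mul, hθ, Ideal.Quotient.eq_zero_iff_mem.mpr ha, zero_mul]
  have h3 := h2 _ h1
  rw [Pi.single_eq_same, map_one] at h3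
  exact one_ne_zero h3

end Groth.L05.Bosch
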