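import Groth.Prelude.Def_FSch3
import Groth.Agent.L01.NilDescent
import Groth.Agent.L01.AdicNoeth
import Mathlib.RingTheory.AdicCompletion.Completeness
import Mathlib.RingTheory.RingHom.Flat
import Mathlib.RingTheory.Localization.Basic
import Mathlib.RingTheory.Ideal.Quotient.Noetherian

/-!
# Flatness of the map between completions of localizations
-/

set_option autoImplicit false

open TensorProduct

universe u

namespace Groth.L05.Bosch

variable {S T : Type u} [CommRing S] [CommRing T]

theorem complMap_algebraMap (I : Ideal S) (K : Ideal T) (g : S →+* T) (h : I.map g ≤ K) (s : S) :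
    FSch.complMap I K g h (algebraMap S (AdicCompletion I S) s) =
      algebraMap T (AdicCompletion K T) (g s) := by
  refine AdicCompletion.ext_evalₐ fun n => ?_
  unfold FSch.complMap
  rw [AdicCompletion.evalₐ_liftRingHom]
  · simp only [RingHom.comp_apply, AlgHom.toRingHom_eq_coe, RingHom.coe_coe]
    rw [AlgHom.commutes, AlgHom.commutes]
    rfl
  · intro m n hle
    apply RingHom.ext
    intro x
    obtain ⟨y, rfl⟩ := AdicCompletion.mk_surjective I S x
    simp only [RingHom.coe_comp, Function.comp_apply, AlgHom.toRingHom_eq_coe, AlgHom.coe_toRingHom,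
      AdicCompletion.evalₐ_mk, Ideal.quotientMap_mk, Ideal.Quotient.factorPow, Ideal.Quotient.factor_mk]
    rw [Ideal.Quotient.eq]
    have hy := y.2 hle
    rw [SModEq.sub_mem] at hy
    simp only [smul_eq_mul, Ideal.mul_top] at hy
    rw [← map_sub]
    refine FSch.pow_le_comap_pow_of_map_le I K g h m ?_
    rw [← neg_sub]
    exact (I ^ m).neg_mem hy

theorem quotientMap_completion_bijective (I : Ideal S) (hI : I.FG) (n : ℕ) :
    Function.Bijective (Ideal.quotientMap ((I ^ n).map (algebraMap S (AdicCompletion I S)))
      (algebraMap S (AdicCompletion I S)) Ideal.le_comap_map) := by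
  have hker : ∀ x : AdicCompletion I S, x ∈ (I ^ n).map (algebraMap S (AdicCompletion I S)) ↔ x.val n = 0 :=
    fun x => by
    rw [← Submodule.restrictScalars_mem S, ← Ideal.smul_top_eq_map,
      AdicCompletion.pow_smul_top_eq_ker_eval hI, LinearMap.mem_ker]
    rfl
  constructor
  · refine (injective_iff_map_eq_zero _).mpr fun y hy => ?_
    obtain ⟨s, rfl⟩ := Ideal.Quotient.mk_surjective y
    rw [Ideal.quotientMap_mk, Ideal.Quotient.eq_zero_iff_mem, hker, AdicCompletion.algebraMap_apply] at hy
    have h : s ∈ I ^ n • (⊤ : Submodule S S) := (Submodule.Quotient.mk_eq_zero _).mp hy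
    exact Ideal.Quotient.eq_zero_iff_mem.mpr (by simpa using h)
  · intro y
    obtain ⟨x, rfl⟩ := Ideal.Quotient.mk_surjective y
    obtain ⟨s, hs⟩ := Submodule.Quotient.mk_surjective _ (x.val n)
    refine ⟨Ideal.Quotient.mk _ s, ?_⟩
    rw [Ideal.quotientMap_mk, Ideal.Quotient.eq, hker, AdicCompletion.val_sub_apply,
      AdicCompletion.algebraMap_apply, sub_eq_zero]
    exact hs

/-- The map of completions induced by a flat map of Noetherian rings is flat. -/
theorem flat_complMap [IsNoetherianRing S] [IsNoetherianRing T] (I : Ideal S) (g : S →+* T) (hg : g.Flat)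
    (K : Ideal T) (hK : K = I.map g) (h : I.map g ≤ K) : (FSch.complMap I K g h).Flat := by
  subst hK
  have hI : I.FG := IsNoetherian.noetherian I
  haveI := Groth.L01.AdicNoeth.isNoetherianRing_adicCompletion I hI
  haveI := Groth.L01.AdicNoeth.isNoetherianRing_adicCompletion (I.map g) (hI.map g)
  let B := AdicCompletion I S
  let A := AdicCompletion (I.map g) T
  letI : Algebra B A := (FSch.complMap I (I.map g) g h).toAlgebra
  haveI := AdicCompletion.isAdicComplete_self (I.map g) (hI.map g)
  have hmap : ∀ n : ℕ, ((I ^ n).map (algebraMap S B)).map (algebraMap B A) =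
      ((I.map g) ^ n).map (algebraMap T A) := fun n => by
    rw [Ideal.map_map, show (algebraMap B A).comp (algebraMap S B) = (algebraMap T A).comp g from
      RingHom.ext (complMap_algebraMap I (I.map g) g h), ← Ideal.map_map, Ideal.map_pow]
  show Module.Flat B A
  refine Groth.L01.NilDescent.flat_of_flat_quotient_pow (I.map (algebraMap S B)) ?_ fun n _ => ?_
  · have h1 := hmap 1
    rw [pow_one, pow_one] at h1
    rw [h1]
    exact IsAdicComplete.le_jacobson_bot _
  let JB := (I.map (algebraMap S B)) ^ n
  have hJB : JB = (I ^ n).map (algebraMap S B) := (Ideal.map_pow _ _ _).symm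
  have hJA : JB.map (algebraMap B A) = ((I.map g) ^ n).map (algebraMap T A) := by rw [hJB, hmap]
  have hSB : I ^ n ≤ JB.comap (algebraMap S B) := by rw [hJB]; exact Ideal.le_comap_map
  have hTA : (I.map g) ^ n ≤ (JB.map (algebraMap B A)).comap (algebraMap T A) := by
    rw [hJA]; exact Ideal.le_comap_map
  let e1 : S ⧸ I ^ n →+* B ⧸ JB := Ideal.quotientMap JB (algebraMap S B) hSB
  let e2 : T ⧸ (I.map g) ^ n →+* A ⧸ JB.map (algebraMap B A) :=
    Ideal.quotientMap _ (algebraMap T A) hTA
  have he1 : Function.Bijective e1 := by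
    have e : ∀ (J : Ideal B) (hJ : I ^ n ≤ J.comap (algebraMap S B)), J = (I ^ n).map (algebraMap S B) →
        Function.Bijective (Ideal.quotientMap J (algebraMap S B) hJ) := by
      rintro J hJ rfl
      exact quotientMap_completion_bijective I hI n
    exact e JB hSB hJB
  have he2 : Function.Bijective e2 := by
    have e : ∀ (J : Ideal A) (hJ : (I.map g) ^ n ≤ J.comap (algebraMap T A)),
        J = ((I.map g) ^ n).map (algebraMap T A) →
        Function.Bijective (Ideal.quotientMap J (algebraMap T A) hJ) := by
      rintro J hJ rfl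
      exact quotientMap_completion_bijective (I.map g) (hI.map g) n
    exact e _ hTA hJA
  have hgn : I ^ n ≤ ((I.map g) ^ n).comap g := by rw [← Ideal.map_pow]; exact Ideal.le_comap_map
  let gn : S ⧸ I ^ n →+* T ⧸ (I.map g) ^ n := Ideal.quotientMap _ g hgn
  have hgnflat : gn.Flat := by
    letI := g.toAlgebra
    haveI : Module.Flat S T := hg
    have e : (I.map g) ^ n = (I ^ n).map (algebraMap S T) := (Ideal.map_pow _ _ _).symm
    have : Module.Flat (S ⧸ I ^ n) ((S ⧸ I ^ n) ⊗[S] T) := inferInstance
    let q : (S ⧸ I ^ n) ⊗[S] T ≃ₐ[S ⧸ I ^ n] T ⧸ (I ^ n).map (algebraMap S T) :=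
      Algebra.TensorProduct.quotIdealMapEquivQuotTensor T (I ^ n) |>.symm
    haveI : Module.Flat (S ⧸ I ^ n) (T ⧸ (I ^ n).map (algebraMap S T)) :=
      Module.Flat.of_linearEquiv q.symm.toLinearEquiv
    have hflat : (Ideal.quotientMap ((I ^ n).map (algebraMap S T)) (algebraMap S T) Ideal.le_comap_map).Flat := by
      rw [show Ideal.quotientMap ((I ^ n).map (algebraMap S T)) (algebraMap S T) Ideal.le_comap_map =
        algebraMap (S ⧸ I ^ n) (T ⧸ (I ^ n).map (algebraMap S T)) from
          Ideal.Quotient.ringHom_ext (RingHom.ext fun _ => rfl)]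
      exact RingHom.flat_algebraMap_iff.mpr ‹_›
    have key : ∀ (J : Ideal T) (hJ : I ^ n ≤ J.comap g), J = (I ^ n).map (algebraMap S T) →
        (Ideal.quotientMap J g hJ).Flat := by
      rintro J hJ rfl; exact hflat
    exact key _ hgn e
  have hsq : (algebraMap (B ⧸ JB) (A ⧸ JB.map (algebraMap B A))).comp e1 = e2.comp gn := by
    refine Ideal.Quotient.ringHom_ext (RingHom.ext fun s => ?_)
    show Ideal.Quotient.mk _ (algebraMap B A (algebraMap S B s)) = Ideal.Quotient.mk _ (algebraMap T A (g s))
    rw [RingHom.algebraMap_toAlgebra, complMap_algebraMap]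
  have hflat' : (algebraMap (B ⧸ JB) (A ⧸ JB.map (algebraMap B A))).Flat := by
    have h2 : ((algebraMap (B ⧸ JB) (A ⧸ JB.map (algebraMap B A))).comp e1).Flat := by
      rw [hsq]; exact hgnflat.comp (RingHom.Flat.of_bijective he2)
    have h3 : algebraMap (B ⧸ JB) (A ⧸ JB.map (algebraMap B A)) =
        ((algebraMap (B ⧸ JB) (A ⧸ JB.map (algebraMap B A))).comp e1).comp
          (RingEquiv.ofBijective e1 he1).symm.toRingHom := by
      refine RingHom.ext fun x => ?_
      exact congrArg _ ((RingEquiv.ofBijective e1 he1).apply_symm_apply x).symm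
    rw [h3]
    exact (RingHom.Flat.of_bijective (RingEquiv.ofBijective e1 he1).symm.bijective).comp h2
  haveI : Module.Flat (B ⧸ JB) (A ⧸ JB.map (algebraMap B A)) := RingHom.flat_algebraMap_iff.mp hflat'
  exact Module.Flat.of_linearEquiv
    (Algebra.TensorProduct.quotIdealMapEquivQuotTensor A JB).symm.toLinearEquiv

theorem flat_complMap_localization (A : Type u) [CommRing A] [IsNoetherianRing A] (J : Ideal A)
    (S' S : Submonoid A) (hS : S' ≤ S) (g : Localization S' →+* Localization S)
    (hg : g.comp (algebraMap A (Localization S')) = algebraMap A (Localization S))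
    (hJ : (J.map (algebraMap A (Localization S'))).map g ≤ J.map (algebraMap A (Localization S))) :
    (FSch.complMap (J.map (algebraMap A (Localization S'))) (J.map (algebraMap A (Localization S)))
      g hJ).Flat := by
  haveI : IsNoetherianRing (Localization S') := IsLocalization.isNoetherianRing S' _ inferInstance
  haveI : IsNoetherianRing (Localization S) := IsLocalization.isNoetherianRing S _ inferInstance
  refine flat_complMap _ g ?_ _ (by rw [Ideal.map_map, hg]) hJ
  letI := g.toAlgebra
  haveI : IsScalarTower A (Localization S') (Localization S) :=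
    IsScalarTower.of_algebraMap_eq fun a => (DFunLike.congr_fun hg a).symm
  haveI := IsLocalization.isLocalization_of_submonoid_le (Localization S') (Localization S) S' S hS
  exact IsLocalization.flat (Localization S) (S.map (algebraMap A (Localization S')))

end Groth.L05.Bosch
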