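import Mathlib.RingTheory.AdicCompletion.Completeness
import Mathlib.RingTheory.AdicCompletion.Algebra
import Mathlib.RingTheory.AdicCompletion.Functoriality
import Mathlib.RingTheory.Finiteness.Ideal
import Mathlib.Algebra.BigOperators.Intervals

/-!
# Series, approximation and separatedness in adically complete modules
-/

set_option autoImplicit false

open Submodule

universe u v w

namespace Groth.L05.Bosch

/-- Series with terms in growing powers of the ideal converge. -/
theorem exists_series {S : Type u} [CommRing S] (J : Ideal S) {M : Type v} [AddCommGroup M] [Module S M]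
    [IsPrecomplete J M] (d : ℕ → M) (hd : ∀ l, d l ∈ (J ^ l • ⊤ : Submodule S M)) :
    ∃ q : M, ∀ j, q - ∑ l ∈ Finset.range j, d l ∈ (J ^ j • ⊤ : Submodule S M) := by
  obtain ⟨q, hq⟩ := IsPrecomplete.prec (inferInstance : IsPrecomplete J M)
    (f := fun j => ∑ l ∈ Finset.range j, d l) (fun {m n} hmn => by
      rw [SModEq.sub_mem, ← Finset.sum_range_add_sum_Ico d hmn, sub_add_cancel_left]
      exact neg_mem (sum_mem fun l hl => pow_smul_top_le J M (Finset.mem_Ico.mp hl).1 (hd l)))
  exact ⟨q, fun j => by rw [← neg_sub]; exact neg_mem (SModEq.sub_mem.mp (hq j))⟩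

theorem eq_zero_of_forall {S : Type u} [CommRing S] (J : Ideal S) {M : Type v} [AddCommGroup M]
    [Module S M] [IsHausdorff J M] {x : M} (h : ∀ j, x ∈ (J ^ j • ⊤ : Submodule S M)) : x = 0 :=
  IsHausdorff.haus (inferInstance : IsHausdorff J M) x fun j => SModEq.zero.mpr (h j)

theorem mem_span_singleton_pow_smul {S : Type u} [CommRing S] (τ : S) {M : Type v} [AddCommGroup M]
    [Module S M] (N : Submodule S M) (n : ℕ) {x : M} :
    x ∈ Ideal.span {τ} ^ n • N ↔ ∃ y ∈ N, x = τ ^ n • y := by
  rw [Ideal.span_singleton_pow, Submodule.ideal_span_singleton_smul]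
  exact ⟨fun ⟨y, hy, e⟩ => ⟨y, hy, e.symm⟩, fun ⟨y, hy, e⟩ => ⟨y, hy, e.symm⟩⟩

/-- An element of `I ^ l` times a finitely spanned submodule has coefficients in `I ^ l`. -/
theorem exists_coeff {R : Type u} [CommRing R] (I : Ideal R) {B : Type v} [CommRing B] [Algebra R B]
    {M : Type w} [AddCommGroup M] [Module R M] [Module B M] [IsScalarTower R B M] {r : ℕ}
    (g : Fin r → M) {l : ℕ} {x : M}
    (h : x ∈ I ^ l • (Submodule.span B (Set.range g)).restrictScalars R) :
    ∃ c : Fin r → B, (∀ i, c i ∈ (I ^ l • ⊤ : Submodule R B)) ∧ x = ∑ i, c i • g i := by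
  refine Submodule.smul_induction_on h (fun a ha y hy => ?_) ?_
  · obtain ⟨b, rfl⟩ := (Submodule.mem_span_range_iff_exists_fun B).mp hy
    exact ⟨fun i => a • b i, fun i => Submodule.smul_mem_smul ha Submodule.mem_top,
      by simp [Finset.smul_sum]⟩
  · rintro x y ⟨c, hc, rfl⟩ ⟨c', hc', rfl⟩
    exact ⟨c + c', fun i => add_mem (hc i) (hc' i), by simp [add_smul, Finset.sum_add_distrib]⟩

variable {R : Type u} [CommRing R] (I : Ideal R) (C : Type v) [CommRing C] [Algebra R C]

/-- The completion of an algebra is complete for the ideal of the base. -/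
theorem completion_isAdicComplete (hI : I.FG) :
    IsAdicComplete I (AdicCompletion (I.map (algebraMap R C)) C) :=
  (IsAdicComplete.map_algebraMap_iff (S := C) I _).mp (AdicCompletion.isAdicComplete (hI.map (algebraMap R C)))

variable {I C}

/-- An element of the completion with vanishing component lies in the power of the ideal. -/
theorem completion_mem_pow (hI : I.FG) {n : ℕ} {x : AdicCompletion (I.map (algebraMap R C)) C}
    (hx : x.val n = 0) :
    x ∈ (I ^ n • ⊤ : Submodule R (AdicCompletion (I.map (algebraMap R C)) C)) := by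
  have h : x ∈ ((I.map (algebraMap R C)) ^ n • ⊤ :
      Submodule C (AdicCompletion (I.map (algebraMap R C)) C)) := by
    rw [AdicCompletion.pow_smul_top_eq_ker_eval (hI.map (algebraMap R C)), LinearMap.mem_ker]
    exact hx
  rw [← Ideal.map_pow] at h
  rwa [← Submodule.restrictScalars_mem R, Ideal.smul_restrictScalars,
    Submodule.restrictScalars_top] at h

/-- The algebra is dense in its completion. -/
theorem completion_dense (hI : I.FG) (x : AdicCompletion (I.map (algebraMap R C)) C) (n : ℕ) :
    ∃ s : C, x - algebraMap C _ s ∈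
      (I ^ n • ⊤ : Submodule R (AdicCompletion (I.map (algebraMap R C)) C)) := by
  obtain ⟨s, hs⟩ := Submodule.Quotient.mk_surjective _ (x.val n)
  refine ⟨s, completion_mem_pow hI ?_⟩
  simp [AdicCompletion.algebraMap_apply, ← hs]

variable (C) in
/-- The structure map to the completion, modulo the `n`-th power. -/
theorem completion_val_eq_zero {n : ℕ} {s : C} (hs : s ∈ (I.map (algebraMap R C)) ^ n) :
    (algebraMap C (AdicCompletion (I.map (algebraMap R C)) C) s).val n = 0 := by
  rw [AdicCompletion.algebraMap_apply]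
  exact (Submodule.Quotient.mk_eq_zero _).mpr (by simpa using hs)

end Groth.L05.Bosch
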