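import Groth.Agent.L05.Bosch.CompFlat
import Mathlib.RingTheory.RingHom.FiniteType
import Mathlib.RingTheory.RingHom.FinitePresentation
import Mathlib.RingTheory.Localization.Ideal
import Mathlib.RingTheory.Flat.FaithfullyFlat.Algebra

/-!
# Complete localizations and gluing of algebras topologically of finite type
-/

set_option autoImplicit false

open AdicRing

universe u v w

namespace Groth.L05.Bosch

variable {R : Type u} [CommRing R] {I : Ideal R}

/-- The truncations of a completion are the truncations of the algebra. -/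
theorem exists_completionQuotEquiv (hI : I.FG) (C : Type u) [CommRing C] [Algebra R C] (n : ℕ) :
    Nonempty ((C ⧸ (I ^ n).map (algebraMap R C)) ≃ₐ[R]
      (AdicCompletion (I.map (algebraMap R C)) C ⧸
        (I ^ n).map (algebraMap R (AdicCompletion (I.map (algebraMap R C)) C)))) := by
  let Ĉ := AdicCompletion (I.map (algebraMap R C)) C
  have hle : (I ^ n).map (algebraMap R C) ≤
      ((I ^ n).map (algebraMap R Ĉ)).comap (IsScalarTower.toAlgHom R C Ĉ) := by
    rw [← Ideal.map_le_iff_le_comap, ← Ideal.map_coe (IsScalarTower.toAlgHom R C Ĉ)]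
    simp [Ĉ, Ideal.map_map, ← IsScalarTower.algebraMap_eq]
  refine ⟨AlgEquiv.ofBijective (Ideal.quotientMapₐ _ (IsScalarTower.toAlgHom R C Ĉ) hle) ⟨?_, ?_⟩⟩
  · refine (injective_iff_map_eq_zero _).mpr fun y hy => ?_
    obtain ⟨s, rfl⟩ := Ideal.Quotient.mk_surjective y
    have h : algebraMap C Ĉ s ∈ (I ^ n).map (algebraMap R Ĉ) := Ideal.Quotient.eq_zero_iff_mem.mp hy
    rw [IsScalarTower.algebraMap_eq R C Ĉ, ← Ideal.map_map, ← Submodule.restrictScalars_mem C,
      ← Ideal.smul_top_eq_map, Ideal.map_pow] at h
    have h0 : AdicCompletion.eval (I.map (algebraMap R C)) C n (algebraMap C Ĉ s) = 0 :=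
      LinearMap.mem_ker.mp (AdicCompletion.pow_smul_top_le_ker_eval _ n h)
    rw [AdicCompletion.eval_apply, AdicCompletion.algebraMap_apply, AdicCompletion.of_apply,
      Submodule.mkQ_apply, Submodule.Quotient.mk_eq_zero] at h0
    rw [Ideal.Quotient.eq_zero_iff_mem, Ideal.map_pow]
    simpa using h0
  · intro y
    obtain ⟨x, rfl⟩ := Ideal.Quotient.mk_surjective y
    obtain ⟨s, hs⟩ := completion_dense hI x n
    refine ⟨Ideal.Quotient.mk _ s, (Ideal.Quotient.eq.mpr ?_).symm⟩
    rw [Ideal.map_pow, ← mem_pow_iff_mem_map]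
    exact hs

/-- The truncation of a localization is a localization of the truncation. -/
theorem exists_awayEquiv (A : Type u) [CommRing A] [Algebra R A] (f : A) (n : ℕ) :
    Nonempty (Localization.Away (Ideal.Quotient.mk ((I ^ n).map (algebraMap R A)) f) ≃ₐ[R]
      (Localization.Away f ⧸ (I ^ n).map (algebraMap R (Localization.Away f)))) := by
  let J := (I ^ n).map (algebraMap R A)
  let C := Localization.Away f
  have e : (I ^ n).map (algebraMap R C) = J.map (algebraMap A C) := by
    rw [Ideal.map_map, ← IsScalarTower.algebraMap_eq]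
  haveI : IsLocalization (Submonoid.powers (Ideal.Quotient.mk J f)) (C ⧸ J.map (algebraMap A C)) := by
    rw [← Submonoid.map_powers]
    exact (inferInstance : IsLocalization (Algebra.algebraMapSubmonoid (A ⧸ J) (Submonoid.powers f))
      (C ⧸ J.map (algebraMap A C)))
  haveI : IsScalarTower R (A ⧸ J) (C ⧸ J.map (algebraMap A C)) := IsScalarTower.of_algebraMap_eq fun x => by
    rw [IsScalarTower.algebraMap_apply R A (A ⧸ J), ← IsScalarTower.algebraMap_apply A (A ⧸ J),
      ← IsScalarTower.algebraMap_apply R A]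
  exact ⟨((IsLocalization.algEquiv (Submonoid.powers (Ideal.Quotient.mk J f))
    (Localization.Away (Ideal.Quotient.mk J f)) (C ⧸ J.map (algebraMap A C))).restrictScalars R).trans
    (Ideal.quotientEquivAlgOfEq R e.symm)⟩

theorem exists_clocTruncEquiv (hI : I.FG) (A : Type u) [CommRing A] [Algebra R A] (f : A) (n : ℕ) :
    Nonempty (Localization.Away (Ideal.Quotient.mk ((I ^ n).map (algebraMap R A)) f) ≃ₐ[R]
      (CLoc I f ⧸ (I ^ n).map (algebraMap R (CLoc I f)))) :=
  ⟨(exists_awayEquiv A f n).some.trans (exists_completionQuotEquiv hI (Localization.Away f) n).some⟩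

theorem cloc_isAdicComplete (hI : I.FG) {A : Type u} [CommRing A] [Algebra R A] (f : A) :
    IsAdicComplete (I.map (algebraMap R (CLoc I f))) (CLoc I f) :=
  haveI := completion_isAdicComplete I (Localization.Away f) hI
  (IsAdicComplete.map_algebraMap_iff (S := CLoc I f) I _).mpr inferInstance

theorem span_mk_eq_top {A : Type u} [CommRing A] (J : Ideal A) {r : ℕ} {f : Fin r → A}
    (hf : Ideal.span (Set.range f) = ⊤) :
    Ideal.span (Set.range fun i => Ideal.Quotient.mk J (f i)) = ⊤ := by
  rw [Set.range_comp' (Ideal.Quotient.mk J) f, ← Ideal.map_span, hf, Ideal.map_top]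

theorem topFiniteType_cloc (hR : IsBase R I) {A : Type u} [CommRing A] [Algebra R A]
    (hA : TopFiniteType R I A) (f : A) : TopFiniteType R I (CLoc I f) := by
  haveI : Algebra.FiniteType A (Localization.Away f) :=
    haveI := IsLocalization.Away.finitePresentation f (S := Localization.Away f)
    inferInstance
  exact topFiniteType_completion hR hA (Localization.Away f)

theorem topFiniteType_iff_cloc (hR : IsBase R I) (A : Type u) [CommRing A] [Algebra R A]
    [IsAdicComplete (I.map (algebraMap R A)) A] {r : ℕ} (f : Fin r → A)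
    (hf : Ideal.span (Set.range f) = ⊤) :
    TopFiniteType R I A ↔ ∀ i, TopFiniteType R I (CLoc I (f i)) := by
  refine ⟨fun hA i => topFiniteType_cloc hR hA (f i), fun h => ?_⟩
  have hI := isBase_fg hR
  haveI : Algebra.FiniteType R (A ⧸ (I ^ 1).map (algebraMap R A)) :=
    Algebra.FiniteType.of_span_eq_top_target _ (span_mk_eq_top _ hf) <| by
      rintro _ ⟨i, rfl⟩
      haveI := finiteType_quotient_of_topFiniteType hR (h i) ((I ^ 1).map (algebraMap R (CLoc I (f i))))
        (by rw [pow_one])
      exact Algebra.FiniteType.equiv ‹_› (exists_clocTruncEquiv hI A (f i) 1).some.symm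
  haveI : Algebra.FiniteType R (A ⧸ I.map (algebraMap R A)) :=
    Algebra.FiniteType.equiv ‹_› (Ideal.quotientEquivAlgOfEq R (by rw [pow_one]))
  exact topFiniteType_of_finiteType_quotient hI

theorem finitePresentation_trunc_iff (hR : IsBase R I) (A : Type u) [CommRing A] [Algebra R A] (n : ℕ) :
    (Ideal.quotientMap ((I ^ (n + 1)).map (algebraMap R A)) (algebraMap R A)
      Ideal.le_comap_map).FinitePresentation ↔
      Algebra.FinitePresentation R (A ⧸ (I ^ (n + 1)).map (algebraMap R A)) := by
  have hI := isBase_fg hR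
  letI := (Ideal.quotientMap ((I ^ (n + 1)).map (algebraMap R A)) (algebraMap R A)
    (Ideal.le_comap_map (I := I ^ (n + 1)))).toAlgebra
  haveI : IsScalarTower R (R ⧸ I ^ (n + 1)) (A ⧸ (I ^ (n + 1)).map (algebraMap R A)) :=
    IsScalarTower.of_algebraMap_eq fun x => by
      rw [RingHom.algebraMap_toAlgebra, Ideal.Quotient.algebraMap_eq, Ideal.quotientMap_mk]; rfl
  haveI : Algebra.FinitePresentation R (R ⧸ I ^ (n + 1)) :=
    Algebra.FinitePresentation.quotient (Ideal.FG.pow hI)
  exact ⟨fun h => by
    haveI : Algebra.FinitePresentation (R ⧸ I ^ (n + 1))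
        (A ⧸ (I ^ (n + 1)).map (algebraMap R A)) := h
    exact Algebra.FinitePresentation.trans R (R ⧸ I ^ (n + 1)) _,
    fun h => Algebra.FinitePresentation.of_restrict_scalars_finitePresentation R (R ⧸ I ^ (n + 1)) _⟩

theorem topFinitePresentation_iff_cloc (hR : IsBase R I) (A : Type u) [CommRing A] [Algebra R A]
    [IsAdicComplete (I.map (algebraMap R A)) A] {r : ℕ} (f : Fin r → A)
    (hf : Ideal.span (Set.range f) = ⊤) :
    TopFinitePresentation R I A ↔ ∀ i, TopFinitePresentation R I (CLoc I (f i)) := by
  have hI := isBase_fg hR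
  have key : ∀ i n, (Ideal.quotientMap ((I ^ (n + 1)).map (algebraMap R (CLoc I (f i))))
      (algebraMap R (CLoc I (f i))) Ideal.le_comap_map).FinitePresentation ↔
      Algebra.FinitePresentation R
        (Localization.Away (Ideal.Quotient.mk ((I ^ (n + 1)).map (algebraMap R A)) (f i))) := fun i n => by
    rw [finitePresentation_trunc_iff hR]
    exact ⟨fun h => Algebra.FinitePresentation.equiv (exists_clocTruncEquiv hI A (f i) (n + 1)).some.symm,
      fun h => Algebra.FinitePresentation.equiv (exists_clocTruncEquiv hI A (f i) (n + 1)).some⟩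
  have hc := fun i => cloc_isAdicComplete hI (f i)
  simp only [topFinitePresentation_iff hR]
  constructor
  · intro h i n
    haveI := (finitePresentation_trunc_iff hR A n).mp (h n)
    haveI := IsLocalization.Away.finitePresentation
      (Ideal.Quotient.mk ((I ^ (n + 1)).map (algebraMap R A)) (f i))
      (S := Localization.Away (Ideal.Quotient.mk ((I ^ (n + 1)).map (algebraMap R A)) (f i)))
    exact (key i n).mpr (Algebra.FinitePresentation.trans R (A ⧸ (I ^ (n + 1)).map (algebraMap R A)) _)
  · intro h n
    refine (finitePresentation_trunc_iff hR A n).mpr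
      (Algebra.FinitePresentation.of_span_eq_top_target _ (span_mk_eq_top _ hf) ?_)
    rintro _ ⟨i, rfl⟩
    exact (key i n).mp (h i n)

theorem admissible_iff_cloc (hR : IsBase R I) (A : Type u) [CommRing A] [Algebra R A]
    [IsAdicComplete (I.map (algebraMap R A)) A] {r : ℕ} (f : Fin r → A)
    (hf : Ideal.span (Set.range f) = ⊤) :
    Admissible R I A ↔ ∀ i, Admissible R I (CLoc I (f i)) := by
  have hI := isBase_fg hR
  constructor
  · rintro ⟨hA, hT⟩ i
    refine ⟨(topFinitePresentation_iff_cloc hR A f hf).mp hA i, fun x k hx => ?_⟩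
    have hA' : TopFiniteType R I A := by
      obtain ⟨m, φ, hφ, -⟩ := hA
      exact ⟨m, φ, hφ⟩
    haveI := flat_cloc hR hA' (f i)
    have hTA : NoPowTorsion (I.map (algebraMap R A)) A := fun a k ha => hT a k fun b hb => by
      rw [Algebra.smul_def]
      exact ha _ (by rw [← Ideal.map_pow]; exact Ideal.mem_map_of_mem _ hb)
    refine noPowTorsion_of_flat (hI.map _) hTA (CLoc I (f i)) x k fun b hb => ?_
    rw [← Ideal.map_pow] at hb
    refine Submodule.span_induction (fun c hc => ?_) (zero_smul A x) (fun c d _ _ hc hd => ?_)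
      (fun c d _ hd => ?_) hb
    · obtain ⟨r, hr, rfl⟩ := hc
      rw [algebraMap_smul]
      exact hx r hr
    · rw [add_smul, hc, hd, add_zero]
    · rw [smul_assoc, hd, smul_zero]
  · intro h
    have hA := (topFinitePresentation_iff_cloc hR A f hf).mpr fun i => (h i).1
    refine ⟨hA, fun a k ha => ?_⟩
    have hA' : TopFiniteType R I A := by
      obtain ⟨m, φ, hφ, -⟩ := hA
      exact ⟨m, φ, hφ⟩
    haveI := faithfullyFlat_pi_cloc hR hA' f hf
    refine (injective_iff_map_eq_zero _).mp
      (FaithfulSMul.algebraMap_injective A (∀ i, CLoc I (f i))) a (funext fun i => ?_)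
    refine (h i).2 _ k fun b hb => ?_
    rw [Pi.algebraMap_apply, ← algebraMap_smul A b, Algebra.smul_def, ← map_mul, ← smul_eq_mul,
      algebraMap_smul, ha b hb, map_zero]

end Groth.L05.Bosch
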