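import Groth.Agent.L05.Bosch.RPowV
import Groth.Agent.L01.AdicNoeth
import Mathlib.RingTheory.AdicCompletion.AsTensorProduct
import Mathlib.RingTheory.Filtration
import Mathlib.RingTheory.Flat.TorsionFree
import Mathlib.RingTheory.Flat.Stability
import Mathlib.RingTheory.FiniteType
import Mathlib.RingTheory.Polynomial.Basic
import Mathlib.RingTheory.Ideal.Quotient.Noetherian
import Mathlib.LinearAlgebra.TensorProduct.Pi

/-!
# Saturated submodules and Artin–Rees over algebras topologically of finite type
-/

set_option autoImplicit false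

open AdicRing TensorProduct

universe u v w

namespace Groth.L05.Bosch

variable {R : Type u} [CommRing R] {I : Ideal R}

theorem isBase_fg (hR : IsBase R I) : I.FG := by
  rcases hR.2 with ⟨h, -⟩ | ⟨-, -, -, t, -, rfl⟩
  · exact IsNoetherian.noetherian I
  · exact Submodule.fg_span_singleton t

theorem isBase_noPowTorsion (hR : IsBase R I) : NoPowTorsion I R := by
  rcases hR.2 with ⟨-, h⟩ | ⟨hd, -, -, t, ht, rfl⟩
  · exact h
  · intro x n hx
    haveI := hd
    have := hx (t ^ n) (by rw [Ideal.span_singleton_pow]; exact Ideal.mem_span_singleton_self _)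
    exact (mul_eq_zero.mp (show t ^ n * x = 0 from this)).resolve_left (pow_ne_zero n ht)

/-- A flat module has no torsion if the ring has none. -/
theorem noPowTorsion_of_flat (hI : I.FG) (hR : NoPowTorsion I R) (M : Type v) [AddCommGroup M]
    [Module R M] [Module.Flat R M] : NoPowTorsion I M := by
  classical
  intro x n hx
  obtain ⟨k, a, ha⟩ := Submodule.fg_iff_exists_fin_generating_family.mp (Ideal.FG.pow (n := n) hI)
  let f : R →ₗ[R] (Fin k → R) := LinearMap.pi fun i => LinearMap.mulLeft R (a i)
  have hf : Function.Injective f := (injective_iff_map_eq_zero f).mpr fun y hy =>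
    hR y n fun b hb => by
      rw [← ha] at hb
      obtain ⟨c, rfl⟩ := (Submodule.mem_span_range_iff_exists_fun R).mp hb
      simp only [Finset.sum_smul, smul_assoc]
      refine Finset.sum_eq_zero fun i _ => ?_
      rw [show a i • y = 0 from congrFun hy i, smul_zero]
  have hinj := Module.Flat.lTensor_preserves_injective_linearMap (M := M) f hf
  have h0 : x ⊗ₜ[R] (1 : R) = 0 := hinj <| by
    rw [map_zero, LinearMap.lTensor_tmul]
    apply (TensorProduct.piScalarRight R R M (Fin k)).injective
    rw [map_zero]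
    funext i
    have hi : a i ∈ I ^ n := ha ▸ Submodule.subset_span ⟨i, rfl⟩
    simpa [f] using hx _ hi
  simpa using congrArg (TensorProduct.rid R M) h0

/-- Case (N): the ring is Noetherian. -/
theorem isNoetherianRing_rpow [IsNoetherianRing R] (n : ℕ) : IsNoetherianRing (RPow R I n) :=
  Groth.L01.AdicNoeth.isNoetherianRing_adicCompletion _ (IsNoetherian.noetherian _)

/-- `R⟨ζ⟩` is flat over `R`. -/
theorem flat_rpow (hR : IsBase R I) (n : ℕ) : Module.Flat R (RPow R I n) := by
  rcases hR.2 with ⟨hN, -⟩ | ⟨hd, hv, hdim, t, ht, rfl⟩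
  · haveI := hN
    haveI : Module.Flat (MvPolynomial (Fin n) R) (RPow R I n) := AdicCompletion.flat_of_isNoetherian _
    exact Module.Flat.trans R (MvPolynomial (Fin n) R) (RPow R I n)
  · haveI := hd; haveI := hv; haveI := hdim
    haveI : ValuationRing R := {}
    rw [Module.Flat.flat_iff_torsion_eq_bot_of_isBezout, eq_bot_iff]
    rintro x ⟨⟨c, hc⟩, hcx⟩
    exact rpow_nzd' hR.1 ht (nonZeroDivisors.ne_zero hc) x hcx

theorem noPowTorsion_rpow (hR : IsBase R I) (n : ℕ) : NoPowTorsion I (RPow R I n) :=
  haveI := flat_rpow hR n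
  noPowTorsion_of_flat (isBase_fg hR) (isBase_noPowTorsion hR) _

/-- Saturated submodules of finite modules are finitely generated and Artin–Rees holds with a
finitely generated submodule. -/
def Good (R : Type u) [CommRing R] (I : Ideal R) (C : Type u) [CommRing C] [Algebra R C] : Prop :=
  ∀ (M : Type u) [AddCommGroup M] [Module R M] [Module C M] [IsScalarTower R C M] [Module.Finite C M]
    (N : Submodule C M),
    ((∀ (x : M) (n : ℕ), (∀ a ∈ I ^ n, a • x ∈ N) → x ∈ N) → N.FG) ∧
      ∃ (c : ℕ) (K : Submodule C M), K ≤ N ∧ K.FG ∧ ∀ m,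
        (I ^ (m + c) • (⊤ : Submodule R M)) ⊓ N.restrictScalars R ≤ I ^ m • K.restrictScalars R

theorem good_of_isNoetherianRing (C : Type u) [CommRing C] [Algebra R C] [IsNoetherianRing C] :
    Good R I C := by
  intro M _ _ _ _ _ N
  refine ⟨fun _ => IsNoetherian.noetherian N, ?_⟩
  obtain ⟨k, hk⟩ := Ideal.exists_pow_inf_eq_pow_smul (I.map (algebraMap R C)) N
  refine ⟨k, N, le_rfl, IsNoetherian.noetherian N, fun m => ?_⟩
  have h := (hk (m + k) (Nat.le_add_left k m)).le.trans
    (Submodule.smul_mono le_rfl inf_le_right)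
  rw [Nat.add_sub_cancel, ← Ideal.map_pow, ← Ideal.map_pow] at h
  intro x hx
  have h' : x ∈ ((I ^ m).map (algebraMap R C) • N).restrictScalars R := by
    refine h ⟨?_, hx.2⟩
    have := hx.1
    rwa [← Submodule.restrictScalars_top R C M, ← Ideal.smul_restrictScalars] at this
  rwa [Ideal.smul_restrictScalars] at h'

/-- Case (V). -/
theorem good_mvPolynomial_rpow_of_valuation [IsDomain R] [PreValuationRing R] [Ring.KrullDimLE 1 R]
    {t : R} (hR : IsAdicComplete (Ideal.span {t}) R) (ht : t ≠ 0) (n m : ℕ) :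
    Good R (Ideal.span {t}) (MvPolynomial (Fin m) (RPow R (Ideal.span {t}) n)) := by
  intro M _ _ _ _ _ N
  have satfg : ∀ N' : Submodule (MvPolynomial (Fin m) (RPow R (Ideal.span {t}) n)) M,
      (∀ (k : ℕ) (x : M), t ^ k • x ∈ N' → x ∈ N') → N'.FG := by
    intro N' hN'
    obtain ⟨r, π, hπ⟩ := Module.Finite.exists_fin' (MvPolynomial (Fin m) (RPow R (Ideal.span {t}) n)) M
    rw [← Submodule.map_comap_eq_of_surjective hπ N']
    refine Submodule.FG.map π (fg_of_saturated hR ht m r _ fun c x hc hx => ?_)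
    obtain ⟨k, e, he⟩ := exists_dvd_pow (not_isUnit_of_isAdicComplete hR) hc
    refine hN' k _ ?_
    rw [he, mul_comm, mul_smul]
    refine Submodule.smul_of_tower_mem N' e ?_
    rw [← LinearMap.map_smul_of_tower]
    exact hx
  refine ⟨fun hsat => satfg N fun k x hx => hsat x k fun a ha => ?_, ?_⟩
  · rw [Ideal.span_singleton_pow, Ideal.mem_span_singleton'] at ha
    obtain ⟨b, rfl⟩ := ha
    rw [mul_smul]
    exact Submodule.smul_of_tower_mem N b hx
  let Ns : Submodule (MvPolynomial (Fin m) (RPow R (Ideal.span {t}) n)) M :=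
    { carrier := {x | ∃ k : ℕ, t ^ k • x ∈ N}
      add_mem' := by
        rintro x y ⟨k, hk⟩ ⟨l, hl⟩
        refine ⟨k + l, ?_⟩
        rw [smul_add, pow_add]
        refine add_mem ?_ ?_
        · rw [mul_comm, mul_smul]; exact Submodule.smul_of_tower_mem N _ hk
        · rw [mul_smul]; exact Submodule.smul_of_tower_mem N _ hl
      zero_mem' := ⟨0, by simp⟩
      smul_mem' := by
        rintro a x ⟨k, hk⟩
        exact ⟨k, by rw [smul_comm]; exact N.smul_mem a hk⟩ }
  have hNs : Ns.FG := satfg Ns fun k x ⟨l, hl⟩ => ⟨l + k, by rwa [pow_add, mul_smul]⟩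
  obtain ⟨r, g, hg⟩ := Submodule.fg_iff_exists_fin_generating_family.mp hNs
  choose e he using fun i => (show g i ∈ Ns from hg ▸ Submodule.subset_span ⟨i, rfl⟩)
  let E := Finset.univ.sup e
  let L : M →ₗ[MvPolynomial (Fin m) (RPow R (Ideal.span {t}) n)] M :=
    { toFun := fun x => t ^ E • x
      map_add' := fun _ _ => smul_add _ _ _
      map_smul' := fun a x => smul_comm _ _ _ }
  have hE : Ns ≤ N.comap L := by
    rw [← hg, Submodule.span_le]
    rintro _ ⟨i, rfl⟩
    obtain ⟨j, hj⟩ := Nat.exists_eq_add_of_le (Finset.le_sup (f := e) (Finset.mem_univ i))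
    show t ^ E • g i ∈ N
    rw [show E = e i + j from hj, pow_add, mul_comm, mul_smul]
    exact Submodule.smul_of_tower_mem N _ (he i)
  refine ⟨E, Ns.map L, Submodule.map_le_iff_le_comap.mpr hE, hNs.map L, fun k x hx => ?_⟩
  obtain ⟨y, -, rfl⟩ := (mem_span_singleton_pow_smul t ⊤ (k + E)).mp hx.1
  refine (mem_span_singleton_pow_smul t _ k).mpr ⟨t ^ E • y, ⟨y, ⟨k + E, hx.2⟩, rfl⟩, ?_⟩
  rw [pow_add, mul_smul]

theorem good_mvPolynomial_rpow (hR : IsBase R I) (n m : ℕ) :
    Good R I (MvPolynomial (Fin m) (RPow R I n)) := by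
  rcases hR.2 with ⟨hN, -⟩ | ⟨hd, hv, hdim, t, ht, rfl⟩
  · haveI := hN
    haveI := isNoetherianRing_rpow (I := I) n
    exact good_of_isNoetherianRing _
  · haveI := hd; haveI := hv; haveI := hdim
    exact good_mvPolynomial_rpow_of_valuation hR.1 ht n m

theorem good_of_surjective {C C' : Type u} [CommRing C] [CommRing C'] [Algebra R C] [Algebra R C']
    (f : C' →ₐ[R] C) (hf : Function.Surjective f) (h : Good R I C') : Good R I C := by
  intro M _ _ _ _ _ N
  letI : Algebra C' C := f.toRingHom.toAlgebra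
  letI : Module C' M := Module.compHom M f.toRingHom
  haveI : IsScalarTower C' C M := IsScalarTower.of_algebraMap_smul fun _ _ => rfl
  haveI : IsScalarTower R C' C := IsScalarTower.of_algebraMap_eq fun x => (f.commutes x).symm
  haveI : IsScalarTower R C' M := IsScalarTower.of_algebraMap_smul fun r x => by
    rw [← algebraMap_smul C (algebraMap R C' r), ← IsScalarTower.algebraMap_apply, algebraMap_smul]
  haveI : Module.Finite C' C := Module.Finite.of_surjective (Algebra.linearMap C' C) hf
  haveI : Module.Finite C' M := Module.Finite.trans C M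
  obtain ⟨hsat, c, K, hKN, hKfg, hAR⟩ := h M (N.restrictScalars C')
  refine ⟨fun hN => Submodule.FG.of_restrictScalars C' (hsat hN),
    c, Submodule.span C (K : Set M), Submodule.span_le.mpr hKN, ?_, fun m => ?_⟩
  · obtain ⟨s, hs⟩ := hKfg
    refine ⟨s, le_antisymm (Submodule.span_mono (hs ▸ Submodule.subset_span)) (Submodule.span_le.mpr ?_)⟩
    intro x hx
    rw [← hs] at hx
    exact Submodule.span_le_restrictScalars C' C (s : Set M) hx
  · exact (hAR m).trans (Submodule.smul_mono le_rfl fun x hx => Submodule.subset_span hx)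

/-- Algebras of finite type over algebras topologically of finite type. -/
theorem good_of_finiteType (hR : IsBase R I) {A : Type u} [CommRing A] [Algebra R A]
    (hA : TopFiniteType R I A) (C : Type u) [CommRing C] [Algebra R C] [Algebra A C]
    [IsScalarTower R A C] [Algebra.FiniteType A C] : Good R I C := by
  obtain ⟨n, φ, hφ⟩ := hA
  obtain ⟨m, ψ, hψ⟩ := Algebra.FiniteType.iff_quotient_mvPolynomial''.mp ‹Algebra.FiniteType A C›
  refine good_of_surjective ((ψ.restrictScalars R).comp (MvPolynomial.mapAlgHom φ)) ?_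
    (good_mvPolynomial_rpow hR n m)
  exact hψ.comp (MvPolynomial.map_surjective φ.toRingHom hφ)

theorem good_of_topFiniteType (hR : IsBase R I) {A : Type u} [CommRing A] [Algebra R A]
    (hA : TopFiniteType R I A) : Good R I A :=
  good_of_finiteType hR hA A

end Groth.L05.Bosch
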