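import Mathlib.RingTheory.Valuation.ValuationRing
import Mathlib.RingTheory.MvPolynomial.WeightedHomogeneous
import Mathlib.Algebra.MvPolynomial.CommRing
import Mathlib.Data.Finsupp.MonomialOrder
import Mathlib.Data.Finsupp.PWO
import Mathlib.Order.WellFoundedSet
import Mathlib.Data.Prod.Lex

/-!
# Division with remainder for saturated submodules over a valuation ring of height one

Let `R` be a valuation domain with a pseudo-uniformizer `t` and `Q` an `R`-algebra which, modulo every
nonzero element of `R`, looks like a graded polynomial ring. A saturated submodule of a free `Q`-module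
is generated in each degree by finitely many of its homogeneous elements.
-/

set_option autoImplicit false

open MvPolynomial

universe u v

namespace Groth.L05.Bosch

variable {R : Type u} [CommRing R] [PreValuationRing R]

/-- A finite family has a member dividing all the others. -/
theorem exists_dvd_all (c : R) (s : Finset R) :
    ∃ d, (d = c ∨ d ∈ s) ∧ d ∣ c ∧ ∀ x ∈ s, d ∣ x := by
  classical
  induction s using Finset.induction with
  | empty => exact ⟨c, .inl rfl, dvd_rfl, by simp⟩
  | insert a s _ ih =>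
    obtain ⟨d, hd, hdc, hds⟩ := ih
    obtain ⟨e, he | he⟩ := PreValuationRing.cond d a
    · refine ⟨d, hd.imp id (Finset.mem_insert_of_mem), hdc, fun x hx => ?_⟩
      rcases Finset.mem_insert.mp hx with rfl | hx
      · exact ⟨e, he.symm⟩
      · exact hds x hx
    · refine ⟨a, .inr (Finset.mem_insert_self a s), dvd_trans ⟨e, he.symm⟩ hdc, fun x hx => ?_⟩
      rcases Finset.mem_insert.mp hx with rfl | hx
      · exact dvd_rfl
      · exact dvd_trans ⟨e, he.symm⟩ (hds x hx)

theorem dvd_of_not_dvd {a b : R} (h : ¬ a ∣ b) : b ∣ a := by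
  obtain ⟨e, he | he⟩ := PreValuationRing.cond a b
  · exact absurd ⟨e, he.symm⟩ h
  · exact ⟨e, he.symm⟩

/-- A model, modulo every nonzero scalar, of a graded algebra by a weighted polynomial ring. -/
structure Model (R : Type u) [CommRing R] (Q : Type u) [CommRing Q] [Algebra R Q] where
  k : ℕ
  w : Fin k → ℕ
  J : MvPolynomial (Fin k) R →ₐ[R] Q
  Hom : ℕ → Submodule R Q
  mul_mem : ∀ {d e : ℕ} {a b : Q}, a ∈ Hom d → b ∈ Hom e → a * b ∈ Hom (d + e)
  map_mem : ∀ {d : ℕ} {p : MvPolynomial (Fin k) R}, IsWeightedHomogeneous w p d → J p ∈ Hom d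
  dense : ∀ {d : ℕ} {x : Q}, x ∈ Hom d → ∀ c : R, c ≠ 0 →
    ∃ p, IsWeightedHomogeneous w p d ∧ ∃ z ∈ Hom d, x = J p + c • z
  nzd : ∀ (c : R), c ≠ 0 → ∀ x : Q, c • x = 0 → x = 0
  complete : ∀ (t : R) (d : ℕ) (s : ℕ → Q), ¬ IsUnit t → t ≠ 0 → (∀ l, s l ∈ Hom d) →
    ∃ q ∈ Hom d, ∀ j, ∃ z : Q, q = ∑ l ∈ Finset.range j, t ^ l • s l + t ^ j • z
  separated : ∀ (t : R) (x : Q), ¬ IsUnit t → t ≠ 0 → (∀ j, ∃ z : Q, x = t ^ j • z) → x = 0

variable {Q : Type u} [CommRing Q] [Algebra R Q] (M : Model R Q) {r : ℕ}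

/-- Positions of monomials in a free module, well ordered. -/
abbrev Pos (M : Model R Q) (r : ℕ) := Fin r ×ₗ (MonomialOrder.lex (σ := Fin M.k)).syn

/-- The position of the monomial `a` in component `i`. -/
noncomputable def pos (i : Fin r) (a : Fin M.k →₀ ℕ) : Pos M r :=
  toLex (i, (MonomialOrder.lex (σ := Fin M.k)).toSyn a)

theorem pos_inj {i i' : Fin r} {a a' : Fin M.k →₀ ℕ} (h : pos M i a = pos M i' a') : i = i' ∧ a = a' := by
  have := toLex.injective h
  simp only [Prod.mk.injEq, EmbeddingLike.apply_eq_iff_eq] at this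
  exact this

theorem pos_add_lt {i : Fin r} {a a' b : Fin M.k →₀ ℕ} (h : pos M i a < pos M i a') :
    pos M i (a + b) < pos M i (a' + b) := by
  simp only [pos, Prod.Lex.toLex_lt_toLex, lt_self_iff_false, false_or, true_and] at h ⊢
  rw [map_add, map_add]
  exact add_lt_add_left h _

/-- Homogeneous vectors. -/
def HomVec (D : ℕ) (x : Fin r → Q) : Prop := ∀ i, x i ∈ M.Hom D

variable (N : Submodule Q (Fin r → Q))

/-- The leading positions of the saturated module. -/
def Lead (μ : Pos M r) : Prop :=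
  ∃ (D : ℕ) (x : Fin r → Q) (p : Fin r → MvPolynomial (Fin M.k) R) (c : R) (z : Fin r → Q) (i : Fin r)
    (a : Fin M.k →₀ ℕ), pos M i a = μ ∧ x ∈ N ∧ HomVec M D x ∧
      (∀ j, IsWeightedHomogeneous M.w (p j) D) ∧ ¬ IsUnit c ∧ c ≠ 0 ∧ HomVec M D z ∧
      (∀ j, x j = M.J (p j) + c • z j) ∧ coeff a (p i) = 1 ∧
      ∀ j b, μ < pos M j b → c ∣ coeff b (p j)

variable (hsat : ∀ (c : R) (x : Fin r → Q), c ≠ 0 → c • x ∈ N → x ∈ N)
variable [IsDomain R] {t : R} (ht : ¬ IsUnit t) (ht0 : t ≠ 0)
include hsat ht ht0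

/-- If no bad leading position occurs, the vector is divisible by `c` inside the module. -/
theorem exists_smul_of_no_bad {c : R} (hc : ¬ IsUnit c) (hc0 : c ≠ 0) {D : ℕ} {x : Fin r → Q}
    (hxN : x ∈ N) (hx : HomVec M D x) (p : Fin r → MvPolynomial (Fin M.k) R) (z : Fin r → Q)
    (hp : ∀ j, IsWeightedHomogeneous M.w (p j) D) (hz : HomVec M D z)
    (hxp : ∀ j, x j = M.J (p j) + c • z j)
    (hgood : ∀ j b, Lead M N (pos M j b) → c ∣ coeff b (p j)) :
    ∃ y, y ∈ N ∧ HomVec M D y ∧ x = c • y := by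
  classical
  let s : Finset R := (Finset.univ : Finset (Fin r)).biUnion fun j => (p j).support.image fun b => coeff b (p j)
  obtain ⟨d, hd, hdc, hds⟩ := exists_dvd_all c s
  have hd0 : d ≠ 0 := fun h => hc0 (zero_dvd_iff.mp (h ▸ hdc))
  have hdiv : ∀ j b, d ∣ coeff b (p j) := fun j b => by
    by_cases h : coeff b (p j) = 0
    · rw [h]; exact dvd_zero d
    · exact hds _ (Finset.mem_biUnion.mpr ⟨j, Finset.mem_univ _,
        Finset.mem_image.mpr ⟨b, mem_support_iff.mpr h, rfl⟩⟩)
  choose p' hp' using fun j => (C_dvd_iff_dvd_coeff d (p j)).mpr (hdiv j)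
  have hp'h : ∀ j, IsWeightedHomogeneous M.w (p' j) D := fun j b hb => hp j (by
    rw [hp' j, coeff_C_mul]; exact mul_ne_zero hd0 hb)
  obtain ⟨e, rfl⟩ := hdc
  let y : Fin r → Q := fun j => M.J (p' j) + e • z j
  have hxy : x = d • y := funext fun j => by
    rw [Pi.smul_apply, hxp j, hp' j, smul_add, smul_smul, map_mul,
      show M.J (C d) = algebraMap R Q d from M.J.commutes d, ← Algebra.smul_def]
  have hyN : y ∈ N := hsat d y hd0 (hxy ▸ hxN)
  have hyh : HomVec M D y := fun j => add_mem (M.map_mem (hp'h j)) (Submodule.smul_mem _ _ (hz j))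
  by_cases hunit : IsUnit e
  · obtain ⟨v, rfl⟩ := hunit
    refine ⟨(↑v⁻¹ : R) • y, hsat (v : R) _ v.ne_zero (by rwa [smul_smul, Units.mul_inv, one_smul]),
      fun j => Submodule.smul_mem _ _ (hyh j), ?_⟩
    rw [hxy, smul_smul, mul_assoc, Units.mul_inv, mul_one]
  exfalso
  -- the leading position of `y` is bad
  rcases hd with hd | hd
  · have he : e = 1 := mul_left_cancel₀ hd0 (hd.symm.trans (mul_one d).symm)
    exact hunit (he ▸ isUnit_one)
  obtain ⟨j₀, -, hj₀⟩ := Finset.mem_biUnion.mp hd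
  obtain ⟨b₀, -, hb₀⟩ := Finset.mem_image.mp hj₀
  have hu₀ : coeff b₀ (p' j₀) = 1 := mul_left_cancel₀ hd0 (by rw [mul_one, ← coeff_C_mul, ← hp', hb₀])
  let U : Finset (Pos M r) := (Finset.univ : Finset (Fin r)).biUnion fun j =>
    ((p' j).support.filter fun b => IsUnit (coeff b (p' j))).image fun b => pos M j b
  have hU : U.Nonempty := ⟨pos M j₀ b₀, Finset.mem_biUnion.mpr ⟨j₀, Finset.mem_univ _, Finset.mem_image.mpr
    ⟨b₀, Finset.mem_filter.mpr ⟨mem_support_iff.mpr (by rw [hu₀]; exact one_ne_zero), by rw [hu₀]; exact isUnit_one⟩, rfl⟩⟩⟩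
  obtain ⟨i, -, hi⟩ := Finset.mem_biUnion.mp (Finset.max'_mem U hU)
  obtain ⟨a, ha, hμ⟩ := Finset.mem_image.mp hi
  obtain ⟨v, hv⟩ := (Finset.mem_filter.mp ha).2
  let s' : Finset R := ((Finset.univ : Finset (Fin r)).biUnion fun j =>
    (p' j).support.image fun b => coeff b (p' j)).filter fun a => ¬ IsUnit a
  obtain ⟨c', hc', hc'e, hc's⟩ := exists_dvd_all e s'
  have hc'u : ¬ IsUnit c' := by
    rcases hc' with rfl | h
    · exact hunit
    · exact (Finset.mem_filter.mp h).2
  have he0 : e ≠ 0 := right_ne_zero_of_mul hc0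
  have hc'0 : c' ≠ 0 := fun h => he0 (zero_dvd_iff.mp (h ▸ hc'e))
  obtain ⟨e', rfl⟩ := hc'e
  have hlead : Lead M N (pos M i a) := by
    refine ⟨D, (↑v⁻¹ : R) • y, fun j => (↑v⁻¹ : R) • p' j, c', (↑v⁻¹ : R) • e' • z, i, a, rfl,
      hsat (v : R) _ v.ne_zero (by rwa [smul_smul, Units.mul_inv, one_smul]),
      fun j => Submodule.smul_mem _ _ (hyh j), fun j b hb => hp'h j ?_, hc'u, hc'0,
      fun j => Submodule.smul_mem _ _ (Submodule.smul_mem _ _ (hz j)), fun j => ?_, ?_, fun j b hb => ?_⟩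
    · rw [coeff_smul] at hb; exact right_ne_zero_of_smul hb
    · simp only [Pi.smul_apply, y, map_smul, smul_add, smul_smul]
      congr 2; ring
    · rw [coeff_smul, ← hv, smul_eq_mul, Units.inv_mul]
    · rw [coeff_smul, smul_eq_mul]
      refine Dvd.dvd.mul_left ?_ _
      by_cases h : coeff b (p' j) = 0
      · rw [h]; exact dvd_zero _
      by_cases hu : IsUnit (coeff b (p' j))
      · refine absurd hb (not_lt.mpr (hμ ▸ Finset.le_max' U _ ?_))
        exact Finset.mem_biUnion.mpr ⟨j, Finset.mem_univ _, Finset.mem_image.mpr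
          ⟨b, Finset.mem_filter.mpr ⟨mem_support_iff.mpr h, hu⟩, rfl⟩⟩
      · exact hc's _ (Finset.mem_filter.mpr ⟨Finset.mem_biUnion.mpr ⟨j, Finset.mem_univ _,
          Finset.mem_image.mpr ⟨b, mem_support_iff.mpr h, rfl⟩⟩, hu⟩)
  have hbad := hgood i a hlead
  rw [hp' i, coeff_C_mul, ← hv] at hbad
  obtain ⟨w, hw⟩ := hbad
  have : c' * (e' * w) = (v : R) := mul_left_cancel₀ hd0 (by rw [hw]; ring)
  exact hc'u (isUnit_of_mul_isUnit_left (this ▸ v.isUnit))

/-- Finitely many homogeneous elements span the module modulo a fixed non-unit, degree by degree. -/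
theorem exists_step :
    ∃ (G : Type) (_ : Fintype G) (d : G → ℕ) (x : G → Fin r → Q) (c : R), (∀ g, x g ∈ N) ∧
      (∀ g, HomVec M (d g) (x g)) ∧ ¬ IsUnit c ∧ c ≠ 0 ∧
      ∀ (D : ℕ) (y : Fin r → Q), y ∈ N → HomVec M D y →
        ∃ q : G → Q, (∀ g, q g ∈ M.Hom (D - d g)) ∧ (∀ g, D < d g → q g = 0) ∧
          ∃ y', y' ∈ N ∧ HomVec M D y' ∧ y = ∑ g, q g • x g + c • y' := by
  classical
  let S : Fin r → Set (Fin M.k →₀ ℕ) := fun i => {a | Lead M N (pos M i a)}
  let G₀ : Set (Fin r × (Fin M.k →₀ ℕ)) := {ia | Minimal (· ∈ S ia.1) ia.2}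
  have hfin : G₀.Finite := by
    refine (Set.finite_iUnion fun i => ((setOfPred_minimal_antichain (· ∈ S i)).finite_of_partiallyWellOrderedOn
      (Set.isPWO_of_wellQuasiOrderedLE _)).image (fun a => (i, a))).subset ?_
    rintro ⟨i, a⟩ h
    exact Set.mem_iUnion.mpr ⟨i, a, h, rfl⟩
  haveI : Finite G₀ := hfin.to_subtype
  obtain ⟨n, ⟨e⟩⟩ := Finite.exists_equiv_fin G₀
  let ig : Fin n → Fin r := fun g => (e.symm g).1.1
  let ag : Fin n → (Fin M.k →₀ ℕ) := fun g => (e.symm g).1.2
  have hG : ∀ g, Lead M N (pos M (ig g) (ag g)) := fun g => (e.symm g).2.1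
  choose d x p c' z i' a' hμ hxN hxh hph hc'u hc'0 hzh hxp hone habove using hG
  obtain ⟨c, hc, hct, hcs⟩ := exists_dvd_all t (Finset.univ.image c')
  have hcu : ¬ IsUnit c := by
    rcases hc with rfl | h
    · exact ht
    · obtain ⟨g, -, rfl⟩ := Finset.mem_image.mp h
      exact hc'u g
  have hc0 : c ≠ 0 := fun h => ht0 (zero_dvd_iff.mp (h ▸ hct))
  have hcc : ∀ g, c ∣ c' g := fun g => hcs _ (Finset.mem_image_of_mem _ (Finset.mem_univ g))
  refine ⟨Fin n, inferInstance, d, x, c, hxN, hxh, hcu, hc0, fun D y hyN hyh => ?_⟩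
  let Concl : (Fin r → Q) → Prop := fun y => ∃ q : Fin n → Q, (∀ g, q g ∈ M.Hom (D - d g)) ∧
    (∀ g, D < d g → q g = 0) ∧ ∃ y', y' ∈ N ∧ HomVec M D y' ∧ y = ∑ g, q g • x g + c • y'
  show Concl y
  let Bad : (Fin r → MvPolynomial (Fin M.k) R) → Finset (Pos M r) := fun p => Finset.univ.biUnion fun j =>
    ((p j).support.filter fun b => Lead M N (pos M j b) ∧ ¬ c ∣ coeff b (p j)).image fun b => pos M j b
  have memBad : ∀ p j b, Lead M N (pos M j b) → ¬ c ∣ coeff b (p j) → pos M j b ∈ Bad p := fun p j b h1 h2 =>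
    Finset.mem_biUnion.mpr ⟨j, Finset.mem_univ _, Finset.mem_image.mpr ⟨b, Finset.mem_filter.mpr
      ⟨mem_support_iff.mpr (fun h => h2 (h ▸ dvd_zero c)), h1, h2⟩, rfl⟩⟩
  have main : ∀ μ : WithTop (Pos M r), ∀ y, y ∈ N → HomVec M D y →
      ∀ (q : Fin r → MvPolynomial (Fin M.k) R) (z₀ : Fin r → Q),
      (∀ j, IsWeightedHomogeneous M.w (q j) D) → HomVec M D z₀ → (∀ j, y j = M.J (q j) + c • z₀ j) →
      (∀ ν ∈ Bad q, (ν : WithTop (Pos M r)) < μ) → Concl y := by
    intro μ
    induction μ using WellFoundedLT.induction with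
    | ind μ ih =>
      intro y hyN hyh q z₀ hq hz₀ hyq hbad
      by_cases hne : (Bad q).Nonempty
      · let m := (Bad q).max' hne
        obtain ⟨i, -, hi⟩ := Finset.mem_biUnion.mp ((Bad q).max'_mem hne)
        obtain ⟨a, ha, hm⟩ := Finset.mem_image.mp hi
        obtain ⟨hlead, -⟩ := (Finset.mem_filter.mp ha).2
        obtain ⟨a₀, ha₀le, ha₀⟩ := Set.IsPWO.exists_le_minimal (Set.isPWO_of_wellQuasiOrderedLE (S i)) hlead
        let g : Fin n := e ⟨(i, a₀), ha₀⟩
        have hig : ig g = i := by simp [ig, g]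
        have hag : ag g = a₀ := by simp [ag, g]
        obtain ⟨hi', ha'⟩ := pos_inj M ((hμ g).trans (by rw [hig, hag] : _ = pos M i a₀))
        obtain ⟨b, rfl⟩ : ∃ b, a = a₀ + b := ⟨a - a₀, (add_tsub_cancel_of_le ha₀le).symm⟩
        have hqa : coeff (a₀ + b) (q i) ≠ 0 := mem_support_iff.mp (Finset.mem_filter.mp ha).1
        have hone' : coeff a₀ (p g i) = 1 := by rw [← hi', ← ha']; exact hone g
        have hdeg : Finsupp.weight M.w b + d g = D := by
          rw [← hph g i (show coeff a₀ (p g i) ≠ 0 by rw [hone']; exact one_ne_zero), ← hq i hqa, map_add, add_comm]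
        let mon : MvPolynomial (Fin M.k) R := monomial b (coeff (a₀ + b) (q i))
        have hmon : IsWeightedHomogeneous M.w mon (D - d g) :=
          isWeightedHomogeneous_monomial _ _ _ (by omega)
        have hle : d g ≤ D := by omega
        obtain ⟨f, hf⟩ := hcc g
        have hD : D - d g + d g = D := Nat.sub_add_cancel hle
        have hJm : M.J mon ∈ M.Hom (D - d g) := M.map_mem hmon
        let y₁ := y - M.J mon • x g
        let q₁ : Fin r → MvPolynomial (Fin M.k) R := fun j => q j - mon * p g j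
        let z₁ : Fin r → Q := fun j => z₀ j - f • (M.J mon * z g j)
        have hy₁N : y₁ ∈ N := sub_mem hyN (N.smul_mem _ (hxN g))
        have hy₁h : HomVec M D y₁ := fun j => sub_mem (hyh j) (hD ▸ M.mul_mem hJm (hxh g j))
        have hq₁ : ∀ j, IsWeightedHomogeneous M.w (q₁ j) D := fun j =>
          (weightedHomogeneousSubmodule R M.w D).sub_mem (hq j) (hD ▸ hmon.mul (hph g j))
        have hz₁ : HomVec M D z₁ := fun j =>
          sub_mem (hz₀ j) (Submodule.smul_mem _ _ (hD ▸ M.mul_mem hJm (hzh g j)))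
        have hyq₁ : ∀ j, y₁ j = M.J (q₁ j) + c • z₁ j := fun j => by
          simp only [y₁, q₁, z₁, Pi.sub_apply, Pi.smul_apply, smul_eq_mul, hyq j, hxp g j, map_sub, map_mul,
            smul_sub, smul_smul, ← hf]
          rw [mul_add, mul_smul_comm]
          ring
        have hlt : ∀ ν ∈ Bad q₁, ν < m := fun ν hν => by
          obtain ⟨j, -, hj⟩ := Finset.mem_biUnion.mp hν
          obtain ⟨b', hb', rfl⟩ := Finset.mem_image.mp hj
          obtain ⟨hl', hnd⟩ := (Finset.mem_filter.mp hb').2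
          rw [show m = pos M i (a₀ + b) from hm.symm]
          by_contra hge
          apply hnd
          rcases (not_lt.mp hge).eq_or_lt with heq | hgt
          · obtain ⟨rfl, rfl⟩ := pos_inj M heq
            simp only [q₁, mon, coeff_sub, coeff_monomial_mul']
            rw [if_pos le_add_self, add_tsub_cancel_right, hone', mul_one, sub_self]
            exact dvd_zero _
          · simp only [q₁, mon, coeff_sub, coeff_monomial_mul']
            refine dvd_sub ?_ ?_
            · by_contra hn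
              exact absurd (Finset.le_max' _ _ (memBad q j b' hl' hn)) (not_le.mpr (hm ▸ hgt))
            · split_ifs with hbb
              · refine Dvd.dvd.mul_left (dvd_trans (hcc g) (habove g j (b' - b) ?_)) _
                rw [hig, hag]
                by_contra hge'
                rcases (not_lt.mp hge').eq_or_lt with heq' | hlt'
                · obtain ⟨rfl, hba⟩ := pos_inj M heq'
                  exact absurd hgt (by rw [← hba, tsub_add_cancel_of_le hbb]; exact lt_irrefl _)
                · simp only [pos, Prod.Lex.toLex_lt_toLex] at hlt' hgt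
                  rcases hlt' with h1 | ⟨h1, h2⟩
                  · rcases hgt with h3 | ⟨h3, -⟩
                    · exact absurd (h1.trans h3) (lt_irrefl _)
                    · exact absurd (h3 ▸ h1) (lt_irrefl _)
                  · subst h1
                    have h3 : pos M j (b' - b) < pos M j a₀ := Prod.Lex.toLex_lt_toLex.mpr (.inr ⟨rfl, h2⟩)
                    have h4 := pos_add_lt M (b := b) h3
                    rw [tsub_add_cancel_of_le hbb] at h4
                    exact absurd (Prod.Lex.toLex_lt_toLex.mpr hgt) (lt_asymm h4)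
              · exact dvd_zero _
        obtain ⟨q', hq'h, hq'0, y', hy'N, hy'h, hy'⟩ := ih (m : WithTop (Pos M r))
          (hbad m ((Bad q).max'_mem hne)) y₁ hy₁N hy₁h q₁ z₁ hq₁ hz₁ hyq₁
          (fun ν hν => WithTop.coe_lt_coe.mpr (hlt ν hν))
        refine ⟨q' + Pi.single g (M.J mon), fun g' => ?_, fun g' hg' => ?_, y', hy'N, hy'h, ?_⟩
        · by_cases h : g' = g
          · subst h; rw [Pi.add_apply, Pi.single_eq_same]; exact add_mem (hq'h _) hJm
          · rw [Pi.add_apply, Pi.single_eq_of_ne h, add_zero]; exact hq'h g'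
        · by_cases h : g' = g
          · subst h; omega
          · rw [Pi.add_apply, Pi.single_eq_of_ne h, add_zero, hq'0 g' hg']
        · simp only [Pi.add_apply, add_smul, Finset.sum_add_distrib]
          have hs : ∑ g', (Pi.single g (M.J mon) : Fin n → Q) g' • x g' = M.J mon • x g :=
            (Finset.sum_eq_single g (fun g' _ h => by rw [Pi.single_eq_of_ne h, zero_smul])
              (fun h => absurd (Finset.mem_univ g) h)).trans (by rw [Pi.single_eq_same])
          rw [hs, show y = y₁ + M.J mon • x g from (sub_add_cancel _ _).symm, hy']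
          abel
      · obtain ⟨y', hy'N, hy'h, rfl⟩ := exists_smul_of_no_bad M N hsat ht ht0 hcu hc0 hyN hyh q z₀ hq hz₀ hyq
          fun j b hl => by_contra fun hn => hne ⟨_, memBad q j b hl hn⟩
        exact ⟨0, fun _ => Submodule.zero_mem _, fun _ _ => rfl, y', hy'N, hy'h, by simp⟩
  choose q hq z hz hyq using fun j => M.dense (hyh j) c hc0
  exact main ⊤ y hyN hyh q z hq hz hyq fun ν _ => WithTop.coe_lt_top ν

/-- The module is generated in every degree by finitely many homogeneous elements. -/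
theorem exists_generators :
    ∃ (s : Finset (Fin r → Q)), (∀ x ∈ s, x ∈ N ∧ ∃ D, HomVec M D x) ∧
      ∀ (D : ℕ) (y : Fin r → Q), y ∈ N → HomVec M D y → y ∈ Submodule.span Q (s : Set (Fin r → Q)) := by
  classical
  obtain ⟨G, _, d, x, c, hxN, hxh, hcu, hc0, hstep⟩ := exists_step M N hsat ht ht0
  refine ⟨Finset.univ.image x, fun y hy => ?_, fun D y hyN hyh => ?_⟩
  · obtain ⟨g, -, rfl⟩ := Finset.mem_image.mp hy
    exact ⟨hxN g, d g, hxh g⟩
  · choose q hq hq0 y' hy'N hy'h hy' using
      fun v : {v : Fin r → Q // v ∈ N ∧ HomVec M D v} => hstep D v.1 v.2.1 v.2.2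
    let next : {v : Fin r → Q // v ∈ N ∧ HomVec M D v} → {v : Fin r → Q // v ∈ N ∧ HomVec M D v} :=
      fun v => ⟨y' v, hy'N v, hy'h v⟩
    let ys : ℕ → {v : Fin r → Q // v ∈ N ∧ HomVec M D v} := fun l => next^[l] ⟨y, hyN, hyh⟩
    have hys : ∀ l, (ys l).1 = ∑ g, q (ys l) g • x g + c • (ys (l + 1)).1 := fun l => by
      simp only [ys, Function.iterate_succ', Function.comp_apply]
      exact hy' _
    have hpart : ∀ j, y = ∑ g, (∑ l ∈ Finset.range j, c ^ l • q (ys l) g) • x g + c ^ j • (ys j).1 := by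
      intro j
      induction j with
      | zero => simp [ys]
      | succ j ih =>
        refine ih.trans ?_
        rw [hys j]
        simp only [Finset.sum_range_succ, add_smul, Finset.sum_add_distrib, smul_add, Finset.smul_sum,
          smul_assoc, smul_smul, pow_succ]
        abel
    choose Qg hQh hQ using fun g => M.complete c (D - d g) (fun l => q (ys l) g) hcu hc0 fun l => hq (ys l) g
    have : y = ∑ g, Qg g • x g := funext fun i => sub_eq_zero.mp <| M.separated c _ hcu hc0 fun j => by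
      choose w hw using fun g => hQ g j
      refine ⟨(ys j).1 i - ∑ g, w g * x g i, ?_⟩
      rw [congrFun (hpart j) i]
      simp only [Pi.add_apply, Finset.sum_apply, Pi.smul_apply, smul_eq_mul, hw, add_mul,
        Finset.sum_add_distrib, smul_sub, Finset.smul_sum, smul_mul_assoc]
      abel
    rw [this]
    exact sum_mem fun g _ => Submodule.smul_mem _ _
      (Submodule.subset_span (Finset.mem_image_of_mem x (Finset.mem_univ g)))

end Groth.L05.Bosch
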