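import Groth.Prelude.Def_W4bk4boschfrg79
import Groth.Agent.L05.Bosch.Groebner
import Groth.Agent.L05.Bosch.Complete
import Mathlib.RingTheory.MvPolynomial.Homogeneous
import Mathlib.Algebra.Order.Antidiag.Finsupp
import Mathlib.Data.Fin.Tuple.Basic
import Mathlib.Algebra.MvPolynomial.Rename
import Mathlib.RingTheory.Ideal.Maximal
import Mathlib.RingTheory.LocalRing.MaximalIdeal.Basic
import Mathlib.RingTheory.Nilpotent.Lemmas

/-!
# Restricted power series over a valuation ring of height one

Saturated submodules of free modules over `R⟨ζ⟩[η]` are finitely generated.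
-/

set_option autoImplicit false

open MvPolynomial AdicRing

universe u

namespace Groth.L05.Bosch

variable {R : Type u} [CommRing R] [IsDomain R] [PreValuationRing R] [Ring.KrullDimLE 1 R] {t : R}

/-- In height one, every nonzero element divides a power of any non-unit. -/
theorem exists_dvd_pow {a c : R} (ha : ¬ IsUnit a) (hc : c ≠ 0) : ∃ k, c ∣ a ^ k := by
  haveI : ValuationRing R := {}
  have h : a ∈ (Ideal.span {c}).radical := by
    rw [Ideal.radical_eq_sInf, Ideal.mem_sInf]
    rintro p ⟨hcp, hp⟩
    haveI := hp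
    have hp0 : p ≠ ⊥ := fun h => hc (by simpa [h] using hcp (Ideal.mem_span_singleton_self c))
    haveI : p.IsMaximal := Ideal.IsPrime.isMaximal_of_ne_bot hp hp0
    rw [IsLocalRing.eq_maximalIdeal ‹p.IsMaximal›]
    exact ha
  obtain ⟨k, hk⟩ := h
  exact ⟨k, Ideal.mem_span_singleton.mp hk⟩

theorem not_isUnit_of_isAdicComplete (hR : IsAdicComplete (Ideal.span {t}) R) : ¬ IsUnit t := fun h => by
  rw [Ideal.span_singleton_eq_top.mpr h] at hR
  refine one_ne_zero (α := R) (eq_zero_of_forall (⊤ : Ideal R) fun j => ?_)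
  simp [Ideal.top_pow]

variable (hR : IsAdicComplete (Ideal.span {t}) R) (ht0 : t ≠ 0) {n : ℕ}

set_option quotPrecheck false
local notation "P" => RPow R (Ideal.span (Singleton.singleton t : Set R)) n

omit [IsDomain R] [PreValuationRing R] [Ring.KrullDimLE 1 R] in
theorem rpow_series (s : ℕ → P) :
    ∃ q : P, ∀ j, ∃ z : P, q = ∑ l ∈ Finset.range j, t ^ l • s l + t ^ j • z := by
  haveI : IsAdicComplete (Ideal.span {t}) P :=
    completion_isAdicComplete (Ideal.span {t}) (MvPolynomial (Fin n) R) (Submodule.fg_span_singleton t)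
  obtain ⟨q, hq⟩ := exists_series (Ideal.span {t}) (fun l => t ^ l • s l)
    fun l => (mem_span_singleton_pow_smul t ⊤ l).mpr ⟨s l, trivial, rfl⟩
  refine ⟨q, fun j => ?_⟩
  obtain ⟨z, -, hz⟩ := (mem_span_singleton_pow_smul t ⊤ j).mp (hq j)
  exact ⟨z, by rw [← hz]; abel⟩

omit [IsDomain R] [PreValuationRing R] [Ring.KrullDimLE 1 R] in
theorem rpow_separated (x : P) (h : ∀ j, ∃ z : P, x = t ^ j • z) : x = 0 := by
  haveI : IsAdicComplete (Ideal.span {t}) P :=
    completion_isAdicComplete (Ideal.span {t}) (MvPolynomial (Fin n) R) (Submodule.fg_span_singleton t)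
  exact eq_zero_of_forall (Ideal.span {t}) fun j => (mem_span_singleton_pow_smul t ⊤ j).mpr
    ((h j).imp fun z hz => ⟨trivial, hz⟩)

omit [IsDomain R] [PreValuationRing R] [Ring.KrullDimLE 1 R] in
theorem rpow_dense (x : P) (j : ℕ) :
    ∃ (p : MvPolynomial (Fin n) R) (z : P), x = algebraMap (MvPolynomial (Fin n) R) P p + t ^ j • z := by
  obtain ⟨p, hp⟩ := completion_dense (C := MvPolynomial (Fin n) R) (Submodule.fg_span_singleton t) x j
  obtain ⟨z, -, hz⟩ := (mem_span_singleton_pow_smul t ⊤ j).mp hp
  exact ⟨p, z, sub_eq_iff_eq_add'.mp hz⟩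

omit [PreValuationRing R] [Ring.KrullDimLE 1 R] in
include ht0 in
theorem rpow_nzd (x : P) (h : t • x = 0) : x = 0 := by
  refine AdicCompletion.ext fun j => ?_
  obtain ⟨s, hs⟩ := Submodule.Quotient.mk_surjective _ (x.val (j + 1))
  have h1 : (t • x).val (j + 1) = 0 := by rw [h, AdicCompletion.val_zero_apply]
  rw [AdicCompletion.val_smul_apply, ← hs, ← Submodule.Quotient.mk_smul, Submodule.Quotient.mk_eq_zero] at h1
  rw [AdicCompletion.val_zero_apply, ← x.property (Nat.le_succ j), ← hs]
  refine (Submodule.Quotient.mk_eq_zero _).mpr ?_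
  rw [smul_eq_mul, Ideal.mul_top, ← Ideal.map_pow, Ideal.span_singleton_pow, Ideal.map_span,
    Set.image_singleton, Ideal.mem_span_singleton] at h1 ⊢
  obtain ⟨e, he⟩ := h1
  refine ⟨e, mul_left_cancel₀ (show (C t : MvPolynomial (Fin n) R) ≠ 0 by simpa using ht0) ?_⟩
  rw [← smul_eq_C_mul]
  show t • s = _
  rw [he, pow_succ, map_mul]
  ring

include hR ht0

theorem rpow_nzd' {c : R} (hc : c ≠ 0) (x : P) (h : c • x = 0) : x = 0 := by
  obtain ⟨k, e, he⟩ := exists_dvd_pow (not_isUnit_of_isAdicComplete hR) hc
  have hk : t ^ k • x = 0 := by rw [he, mul_comm, mul_smul, h, smul_zero]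
  clear he h
  induction k with
  | zero => simpa using hk
  | succ k ih => exact ih (rpow_nzd ht0 _ (by rwa [smul_smul, ← pow_succ']))

theorem rpow_dense' {c : R} (hc : c ≠ 0) (x : P) :
    ∃ (p : MvPolynomial (Fin n) R) (z : P), x = algebraMap (MvPolynomial (Fin n) R) P p + c • z := by
  obtain ⟨k, e, he⟩ := exists_dvd_pow (not_isUnit_of_isAdicComplete hR) hc
  obtain ⟨p, z, hz⟩ := rpow_dense x k
  exact ⟨p, e • z, by rw [hz, he, mul_smul]⟩

theorem rpow_separated' {c : R} (hc : ¬ IsUnit c) (x : P) (h : ∀ j, ∃ z : P, x = c ^ j • z) : x = 0 := by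
  refine rpow_separated x fun j => ?_
  obtain ⟨k, e, he⟩ := exists_dvd_pow hc (pow_ne_zero j ht0)
  obtain ⟨z, hz⟩ := h k
  exact ⟨e • z, by rw [hz, he, mul_smul]⟩

theorem rpow_series' {c : R} (hc : ¬ IsUnit c) (hc0 : c ≠ 0) (s : ℕ → P) :
    ∃ q : P, ∀ j, ∃ z : P, q = ∑ l ∈ Finset.range j, c ^ l • s l + c ^ j • z := by
  obtain ⟨k, u, hu⟩ := exists_dvd_pow hc ht0
  let S : ℕ → P := fun i => ∑ l ∈ Finset.range k, (c ^ l * u ^ i) • s (i * k + l)
  obtain ⟨q, hq⟩ := rpow_series (t := t) S
  refine ⟨q, fun j => ?_⟩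
  have hblock : ∀ m, ∑ i ∈ Finset.range m, t ^ i • S i = ∑ l ∈ Finset.range (m * k), c ^ l • s l := by
    intro m
    induction m with
    | zero => simp
    | succ m ih =>
      rw [Finset.sum_range_succ, ih, Nat.succ_mul, Finset.sum_range_add]
      congr 1
      simp only [S, Finset.smul_sum, smul_smul]
      refine Finset.sum_congr rfl fun l _ => ?_
      congr 1
      rw [pow_add, pow_mul', hu, mul_pow]
      ring
  obtain ⟨m₀, hm₀⟩ := exists_dvd_pow (not_isUnit_of_isAdicComplete hR) (pow_ne_zero j hc0)
  rcases Nat.eq_zero_or_pos k with rfl | hk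
  · rw [pow_zero] at hu
    exact absurd (IsUnit.of_mul_eq_one _ hu.symm) (not_isUnit_of_isAdicComplete hR)
  obtain ⟨e, he⟩ : c ^ j ∣ t ^ (m₀ + j) := hm₀.trans (pow_dvd_pow t (Nat.le_add_right _ _))
  obtain ⟨z, hz⟩ := hq (m₀ + j)
  refine ⟨∑ l ∈ Finset.range ((m₀ + j) * k - j), c ^ l • s (j + l) + e • z, ?_⟩
  have hle : j ≤ (m₀ + j) * k := (Nat.le_add_left j m₀).trans (Nat.le_mul_of_pos_right _ hk)
  rw [hz, hblock, he]
  conv_lhs => rw [← Nat.add_sub_cancel' hle, Finset.sum_range_add]
  simp only [smul_add, Finset.smul_sum, smul_smul, pow_add, add_assoc]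

/-- The weights: the coefficients have weight `0`, the variables weight `1`. -/
def wt (n m : ℕ) : Fin (n + m) → ℕ := Fin.append (fun _ => 0) (fun _ => 1)

/-- The model of `R⟨ζ⟩[η]`, graded by the degree in `η`. -/
noncomputable def model (m : ℕ) : Model R (MvPolynomial (Fin m) P) where
  k := n + m
  w := wt n m
  J := aeval (Fin.append (fun i => C (algebraMap (MvPolynomial (Fin n) R) P (X i))) fun j => X j)
  Hom d := (homogeneousSubmodule (Fin m) P d).restrictScalars R
  mul_mem ha hb := IsHomogeneous.mul ha hb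
  map_mem {d p} hp := by
    rw [p.as_sum, map_sum]
    refine Submodule.sum_mem _ fun a ha => ?_
    rw [Submodule.restrictScalars_mem, mem_homogeneousSubmodule, aeval_monomial,
      ← zero_add d, ← hp (mem_support_iff.mp ha), Finsupp.weight_apply]
    refine IsHomogeneous.mul ?_ ?_
    · rw [IsScalarTower.algebraMap_apply R P (MvPolynomial (Fin m) P)]
      exact isHomogeneous_C _ _
    · refine IsHomogeneous.prod _ _ _ fun i _ => ?_
      simp only [smul_eq_mul]
      rw [mul_comm (a i)]
      refine IsHomogeneous.pow ?_ _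
      refine Fin.addCases (fun i => ?_) (fun j => ?_) i
      · simp only [Fin.append_left, wt]; exact isHomogeneous_C _ _
      · simp only [Fin.append_right, wt]; exact isHomogeneous_X _ _
  dense {d x} hx c hc := by
    classical
    choose p z hpz using fun a => rpow_dense' hR ht0 hc (coeff a x)
    refine ⟨∑ a ∈ x.support, rename (Fin.castAdd m) (p a) * rename (Fin.natAdd n) (monomial a 1), ?_,
      ∑ a ∈ x.support, monomial a (z a), ?_, ?_⟩
    · refine Submodule.sum_mem (weightedHomogeneousSubmodule R (wt n m) d) fun a ha => ?_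
      rw [mem_weightedHomogeneousSubmodule, ← zero_add d, ← hx (mem_support_iff.mp ha)]
      refine IsWeightedHomogeneous.mul (fun b hb => ?_) ?_
      · obtain ⟨b', rfl, -⟩ := coeff_rename_ne_zero _ _ _ hb
        rw [Finsupp.weight_apply, Finsupp.sum_mapDomain_index (by simp) (by simp [add_mul])]
        exact Finset.sum_eq_zero fun i _ => by simp [wt]
      · rw [rename_monomial]
        refine isWeightedHomogeneous_monomial _ _ _ ?_
        rw [Finsupp.weight_apply, Finsupp.weight_apply,
          Finsupp.sum_mapDomain_index (by simp) (by simp [add_mul])]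
        simp [wt]
    · exact Submodule.sum_mem _ fun a ha => isHomogeneous_monomial _
        (by rw [← hx (mem_support_iff.mp ha), Finsupp.degree_eq_weight_one]; rfl)
    · conv_lhs => rw [x.as_sum]
      rw [map_sum, Finset.smul_sum, ← Finset.sum_add_distrib]
      refine Finset.sum_congr rfl fun a _ => ?_
      rw [map_mul, aeval_rename, aeval_rename,
        show Fin.append (fun i => C (algebraMap (MvPolynomial (Fin n) R) P (X i))) (fun j => X j) ∘
          Fin.natAdd n = (X : Fin m → MvPolynomial (Fin m) P) from funext fun j => Fin.append_right _ _ j,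
        show Fin.append (fun i => C (algebraMap (MvPolynomial (Fin n) R) P (X i))) (fun j => X j) ∘
          Fin.castAdd m = fun i => (C (algebraMap (MvPolynomial (Fin n) R) P (X i)) : MvPolynomial (Fin m) P)
          from funext fun i => Fin.append_left _ _ i,
        show aeval (R := R) (fun i => (C (algebraMap (MvPolynomial (Fin n) R) P (X i)) : MvPolynomial (Fin m) P))
            = (IsScalarTower.toAlgHom R P (MvPolynomial (Fin m) P)).comp
              (IsScalarTower.toAlgHom R (MvPolynomial (Fin n) R) P) from algHom_ext fun i => by simp,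
        show aeval (R := R) (X : Fin m → MvPolynomial (Fin m) P) (monomial a 1) = monomial a 1 by
          rw [aeval_monomial, monomial_eq]; simp,
        hpz a, map_add, ← smul_monomial]
      simp [C_mul_monomial]
  nzd c hc x hx := by
    refine MvPolynomial.ext _ _ fun a => ?_
    exact rpow_nzd' hR ht0 hc _ (by rw [← coeff_smul, hx, coeff_zero])
  complete t' d s ht' ht'0 hs := by
    classical
    let A := (Finset.univ : Finset (Fin m)).finsuppAntidiag d
    choose q hq using fun a => rpow_series' hR ht0 ht' ht'0 fun l => coeff a (s l)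
    have hA : ∀ a ∈ A, a.degree = d := fun a ha => by
      rw [← (Finset.mem_finsuppAntidiag.mp ha).1, Finsupp.degree_eq_sum]
    refine ⟨∑ a ∈ A, monomial a (q a), Submodule.sum_mem _ fun a ha => isHomogeneous_monomial _ (hA a ha),
      fun j => ?_⟩
    choose z hz using fun a => hq a j
    refine ⟨∑ a ∈ A, monomial a (z a), ?_⟩
    refine MvPolynomial.ext _ _ fun b => ?_
    simp only [coeff_sum, coeff_add, coeff_smul, coeff_monomial, Finset.sum_ite_eq']
    by_cases hb : b ∈ A
    · simp [hb, hz b]
    · rw [if_neg hb, if_neg hb, smul_zero, add_zero, Finset.sum_eq_zero]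
      intro l _
      have : coeff b (s l) = 0 := IsHomogeneous.coeff_eq_zero (hs l) fun e => hb
        (Finset.mem_finsuppAntidiag.mpr ⟨by rw [← e, Finsupp.degree_eq_sum], Finset.subset_univ _⟩)
      rw [this, smul_zero]
  separated t' x ht' ht'0 h := by
    refine MvPolynomial.ext _ _ fun a => ?_
    refine rpow_separated' hR ht0 ht' _ fun j => ?_
    obtain ⟨z, hz⟩ := h j
    exact ⟨coeff a z, by rw [hz, coeff_smul]⟩

/-- Dehomogenization. -/
theorem fg_of_saturated (m r : ℕ) (N : Submodule (MvPolynomial (Fin m) P) (Fin r → MvPolynomial (Fin m) P))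
    (hsat : ∀ (c : R) x, c ≠ 0 → c • x ∈ N → x ∈ N) : N.FG := by
  classical
  let φ : MvPolynomial (Fin (m + 1)) P →ₐ[P] MvPolynomial (Fin m) P := aeval (Fin.snoc X 1)
  let N' : Submodule (MvPolynomial (Fin (m + 1)) P) (Fin r → MvPolynomial (Fin (m + 1)) P) :=
    { carrier := {x | (fun i => φ (x i)) ∈ N}
      add_mem' := fun {x y} hx hy => by
        show (fun i => φ (x i + y i)) ∈ N
        rw [show (fun i => φ (x i + y i)) = (fun i => φ (x i)) + fun i => φ (y i) from funext fun i => map_add φ _ _]
        exact add_mem hx hy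
      zero_mem' := by
        show (fun _ => φ 0) ∈ N
        simp only [map_zero]; exact N.zero_mem
      smul_mem' := fun a x hx => by
        show (fun i => φ (a * x i)) ∈ N
        rw [show (fun i => φ (a * x i)) = φ a • fun i => φ (x i) from funext fun i => map_mul φ _ _]
        exact N.smul_mem (φ a) hx }
  obtain ⟨s, hs, hgen⟩ := exists_generators (model hR ht0 (m + 1)) N' (fun c x hc hx =>
    hsat c _ hc (by
      have : (fun i => φ ((c • x) i)) = c • fun i => φ (x i) :=
        funext fun i => φ.map_smul_of_tower c (x i)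
      exact this ▸ hx)) (not_isUnit_of_isAdicComplete hR) ht0
  refine ⟨s.image fun x i => φ (x i), le_antisymm (Submodule.span_le.mpr ?_) fun y hy => ?_⟩
  · intro _ hx
    obtain ⟨x, hx', rfl⟩ := Finset.mem_image.mp (Finset.mem_coe.mp hx)
    exact (hs x hx').1
  · let D := Finset.univ.sup fun i => (y i).totalDegree
    let y' : Fin r → MvPolynomial (Fin (m + 1)) P := fun i => ∑ a ∈ (y i).support,
      rename Fin.castSucc (monomial a (coeff a (y i))) * X (Fin.last m) ^ (D - a.degree)
    have hφ : ∀ i, φ (y' i) = y i := fun i => by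
      simp only [y', map_sum, map_mul, map_pow, φ, aeval_rename, aeval_X, Fin.snoc_last, one_pow, mul_one]
      conv_rhs => rw [(y i).as_sum]
      refine Finset.sum_congr rfl fun a _ => ?_
      rw [show (Fin.snoc X 1 : Fin (m + 1) → MvPolynomial (Fin m) P) ∘ Fin.castSucc = X from
        funext fun j => Fin.snoc_castSucc .., aeval_X_left_apply]
    have hy' : y' ∈ N' := by
      show (fun i => φ (y' i)) ∈ N
      simpa [hφ] using hy
    have hh : HomVec (model hR ht0 (m + 1)) D y' := fun i => Submodule.sum_mem _ fun a ha => by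
      have hle : a.degree ≤ D := (le_totalDegree ha).trans
        (Finset.le_sup (f := fun i => (y i).totalDegree) (Finset.mem_univ i))
      show IsHomogeneous _ D
      rw [← Nat.add_sub_cancel' hle]
      exact ((isHomogeneous_monomial _ rfl).rename_isHomogeneous).mul
        (by simpa using (isHomogeneous_X P (Fin.last m)).pow (D - a.degree))
    have key := hgen D y' hy' hh
    rw [show y = fun i => φ (y' i) from funext fun i => (hφ i).symm]
    refine Submodule.span_induction (fun x hx => ?_) ?_ (fun x x' _ _ hx hx' => ?_) (fun a x _ hx => ?_) key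
    · exact Submodule.subset_span (Finset.mem_coe.mpr (Finset.mem_image_of_mem _ hx))
    · simp only [Pi.zero_apply, map_zero]; exact Submodule.zero_mem _
    · simpa [map_add, Pi.add_def] using add_mem hx hx'
    · rw [show (fun i => φ ((a • x) i)) = φ a • fun i => φ (x i) from funext fun i => map_mul φ _ _]
      exact Submodule.smul_mem _ (φ a) hx

end Groth.L05.Bosch
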