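import Groth.Agent.L05.Bosch.RigPoint
import Mathlib.RingTheory.AdjoinRoot
import Mathlib.RingTheory.Localization.FractionRing
import Mathlib.RingTheory.Localization.Away.Basic
import Mathlib.RingTheory.Localization.BaseChange
import Mathlib.RingTheory.Localization.Ideal
import Mathlib.RingTheory.TensorProduct.Finite
import Mathlib.RingTheory.Ideal.MinimalPrime.Noetherian
import Mathlib.RingTheory.Ideal.MinimalPrime.Localization
import Mathlib.RingTheory.Jacobson.Ideal

/-!
# Applications to rig points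
-/

set_option autoImplicit false

open AdicRing TensorProduct

universe u v w

namespace Groth.L05.Bosch

variable {R : Type u} [CommRing R] [IsDomain R] [ValuationRing R] [Ring.KrullDimLE 1 R] {t : R}
variable (hR : IsAdicComplete (Ideal.span {t}) R) (ht : t ≠ 0)

include hR ht

theorem topFiniteType_of_admissible {B : Type u} [CommRing B] [Algebra R B]
    (hB : Admissible R (Ideal.span {t}) B) : TopFiniteType R (Ideal.span {t}) B := by
  obtain ⟨m, φ, hφ, -⟩ := hB.1
  exact ⟨m, φ, hφ⟩

theorem algebraMap_ne_zero_of_admissible {B : Type u} [CommRing B] [Nontrivial B] [Algebra R B]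
    (hB : Admissible R (Ideal.span {t}) B) : algebraMap R B t ≠ 0 := fun h =>
  one_ne_zero (α := B) (hB.2 1 1 fun a ha => by
    rw [pow_one, Ideal.mem_span_singleton'] at ha
    obtain ⟨b, rfl⟩ := ha
    rw [Algebra.smul_def, map_mul, h, mul_zero, mul_one])

theorem finite_of_admissible_dim_one (B : Type u) [CommRing B] [Algebra R B] [IsDomain B]
    (hB : Admissible R (Ideal.span {t}) B) (hdim : ringKrullDim B = 1) : Module.Finite R B := by
  haveI : Ring.KrullDimLE 1 B := Ring.krullDimLE_iff.mpr (le_of_eq hdim)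
  exact finite_of_forall_dvd_pow hR ht B (topFiniteType_of_admissible hR ht hB)
    (algebraMap_ne_zero_of_admissible hR ht hB) fun b hb =>
    forall_dvd_pow_of_krullDimLE hR ht B (topFiniteType_of_admissible hR ht hB) hb

theorem surjective_comp_algebraMap {A : Type u} [CommRing A] [Algebra R A] (f : A)
    (B : Type u) [CommRing B] [Algebra R B] [IsDomain B] (hB : Admissible R (Ideal.span {t}) B)
    (hdim : ringKrullDim B = 1) (u : CLoc (Ideal.span {t}) f →ₐ[R] B) (hu : Function.Surjective u) :
    Function.Surjective (u.toRingHom.comp (algebraMap A (CLoc (Ideal.span {t}) f))) := by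
  haveI := finite_of_admissible_dim_one hR ht B hB hdim
  let C := Localization.Away f
  let ψ : A →ₐ[R] B := u.comp (IsScalarTower.toAlgHom R A (CLoc (Ideal.span {t}) f))
  obtain ⟨v, hv⟩ : IsUnit (ψ f) := by
    have h := ((IsLocalization.Away.algebraMap_isUnit f (S := C)).map
      (algebraMap C (CLoc (Ideal.span {t}) f))).map u.toRingHom
    rwa [← IsScalarTower.algebraMap_apply] at h
  -- the inverse of the image of `f` lies in the image of `A`
  have hinv : (↑v⁻¹ : B) ∈ ψ.range := by
    obtain ⟨p, hp, hpv⟩ := Algebra.IsIntegral.isIntegral (R := R) (↑v⁻¹ : B)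
    rcases Nat.eq_zero_or_pos p.natDegree with hd | hd
    · rw [Polynomial.eq_one_of_monic_natDegree_zero hp hd, Polynomial.eval₂_one] at hpv
      exact absurd hpv one_ne_zero
    obtain ⟨n, hn⟩ := Nat.exists_eq_succ_of_ne_zero hd.ne'
    have h := hpv
    have hc1 : p.coeff (n + 1) = 1 := by rw [← Nat.succ_eq_add_one, ← hn]; exact hp.coeff_natDegree
    rw [Polynomial.eval₂_eq_sum_range, hn, Finset.sum_range_succ, hc1, map_one,
      one_mul, pow_succ] at h
    have h2 : (↑v⁻¹ : B) = -∑ i ∈ Finset.range (n + 1), algebraMap R B (p.coeff i) * (v : B) ^ (n - i) := by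
      have h3 := congrArg (fun z => (v : B) ^ n * z) h
      simp only [mul_add, Finset.mul_sum, mul_zero] at h3
      rw [← mul_assoc, ← mul_pow, Units.mul_inv, one_pow, one_mul, add_comm] at h3
      rw [eq_neg_of_add_eq_zero_left h3]
      congr 1
      refine Finset.sum_congr rfl fun i hi => ?_
      have hin : i ≤ n := Nat.lt_succ_iff.mp (Finset.mem_range.mp hi)
      conv_lhs => rw [show n = n - i + i from (Nat.sub_add_cancel hin).symm, pow_add]
      rw [show (v : B) ^ (n - i) * (v : B) ^ i * (algebraMap R B (p.coeff i) * (↑v⁻¹ : B) ^ i) =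
        algebraMap R B (p.coeff i) * (v : B) ^ (n - i) * ((v : B) ^ i * (↑v⁻¹ : B) ^ i) by ring,
        ← mul_pow, Units.mul_inv, one_pow, mul_one]
    rw [h2]
    exact neg_mem (sum_mem fun i _ => mul_mem (Subalgebra.algebraMap_mem _ _) (pow_mem (show (v : B) ∈ ψ.range from ⟨f, hv.symm⟩) _))
  have hC : ∀ c : C, u (algebraMap C _ c) ∈ ψ.range := fun c => by
    obtain ⟨⟨a, _, N, rfl⟩, hc⟩ := IsLocalization.surj (Submonoid.powers f) c
    have h := congrArg (fun z => u (algebraMap C (CLoc (Ideal.span {t}) f) z)) hc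
    simp only [map_mul, ← IsScalarTower.algebraMap_apply, map_pow] at h
    have hf : u (algebraMap A (CLoc (Ideal.span {t}) f) f) = v := hv.symm
    rw [hf] at h
    have : u (algebraMap C _ c) = ψ a * (↑v⁻¹ : B) ^ N := by
      rw [show ψ a = u (algebraMap A (CLoc (Ideal.span {t}) f) a) from rfl, ← h, mul_assoc, ← mul_pow,
        Units.mul_inv, one_pow, mul_one]
    rw [this]
    exact mul_mem ⟨a, rfl⟩ (pow_mem hinv N)
  let B₀ : Submodule R B := Subalgebra.toSubmodule ψ.range
  have htj : (Ideal.span {t} : Ideal R) ≤ Ideal.jacobson ⊥ := by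
    rw [IsLocalRing.jacobson_eq_maximalIdeal _ bot_ne_top]
    exact (Ideal.span_singleton_le_iff_mem _).mpr
      ((IsLocalRing.mem_maximalIdeal _).mpr (not_isUnit_of_isAdicComplete hR))
  have hsup : (⊤ : Submodule R B) ≤ B₀ ⊔ Ideal.span {t} • ⊤ := fun b _ => by
    obtain ⟨x, rfl⟩ := hu b
    obtain ⟨c, hc⟩ := completion_dense (C := C) (Submodule.fg_span_singleton t) x 1
    rw [show u x = u (algebraMap C _ c) + (u x - u (algebraMap C _ c)) from (add_sub_cancel _ _).symm]
    refine Submodule.add_mem_sup (hC c) ?_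
    rw [← map_sub]
    exact Submodule.smul_mono (Ideal.pow_le_self one_ne_zero) le_rfl
      (Submodule.smul_top_le_comap_smul_top _ u.toLinearMap hc)
  intro b
  exact (Submodule.le_of_le_smul_of_le_jacobson_bot Module.Finite.fg_top htj hsup Submodule.mem_top : b ∈ B₀)

theorem range_admissible {A A' : Type u} [CommRing A] [Algebra R A] [CommRing A'] [Algebra R A']
    (hA : Admissible R (Ideal.span {t}) A) (φ : A →ₐ[R] A')
    (B' : Type u) [CommRing B'] [Algebra R B'] [IsDomain B']
    (hB' : Admissible R (Ideal.span {t}) B') (hdim : ringKrullDim B' = 1) (u' : A' →ₐ[R] B') :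
    Admissible R (Ideal.span {t}) ((u'.comp φ).range) ∧
      IsLocalRing ((u'.comp φ).range) ∧ ringKrullDim ((u'.comp φ).range) = 1 := by
  haveI := finite_of_admissible_dim_one hR ht B' hB' hdim
  have hb := isBase_of_valuation hR ht
  let S := (u'.comp φ).range
  have hS : TopFiniteType R (Ideal.span {t}) S := by
    obtain ⟨m, χ, hχ⟩ := topFiniteType_of_admissible hR ht hA
    exact ⟨m, (u'.comp φ).rangeRestrict.comp χ, (AlgHom.rangeRestrict_surjective _).comp hχ⟩
  have hTS : NoPowTorsion (Ideal.span {t}) S := fun x k hx => Subtype.ext (hB'.2 (x : B') k fun a ha => by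
    rw [← Subalgebra.coe_smul, hx a ha]; rfl)
  haveI : Algebra.IsIntegral R S := ⟨fun x =>
    (isIntegral_algHom_iff S.val Subtype.val_injective).mp (Algebra.IsIntegral.isIntegral (R := R) (x : B'))⟩
  have htS : algebraMap R S t ≠ 0 := fun h =>
    algebraMap_ne_zero_of_admissible hR ht hB' (congrArg Subtype.val h)
  haveI := henselianLocalRing_of_complete hR ht
  have hinj : Function.Injective (algebraMap R S) := fun a b h =>
    (isLocalRing_and_dim_of_finite hR ht B' (algebraMap_ne_zero_of_admissible hR ht hB')).2.2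
      (congrArg Subtype.val h)
  exact ⟨⟨topFinitePresentation_of_noPowTorsion hb hS hTS, hTS⟩,
    Groth.L05.isLocalRing_of_integral_domain (A := R) S,
    (Groth.L22.AffineDim.ringKrullDim_eq_of_isIntegral hinj).trans (ringKrullDim_eq_one hR ht)⟩

theorem isLocalization_away_tensor (A : Type u) [CommRing A] [Algebra R A] :
    IsLocalization.Away (algebraMap R A t) (A ⊗[R] FractionRing R) := by
  haveI : IsLocalization.Away t (FractionRing R) := by
    refine IsLocalization.Away.mk t ?_ (fun z => ?_) (fun a b h => ⟨0, by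
      rw [IsFractionRing.injective R (FractionRing R) h]⟩)
    · exact IsUnit.mk0 _ fun h => ht (IsFractionRing.injective R (FractionRing R) (by rw [h, map_zero]))
    · obtain ⟨a, s, hs, rfl⟩ := IsFractionRing.div_surjective (A := R) z
      obtain ⟨k, e, he⟩ := exists_dvd_pow (not_isUnit_of_isAdicComplete hR) (nonZeroDivisors.ne_zero hs)
      refine ⟨k, a * e, ?_⟩
      have hs0 : algebraMap R (FractionRing R) s ≠ 0 := fun h =>
        nonZeroDivisors.ne_zero hs (IsFractionRing.injective R (FractionRing R) (by rw [h, map_zero]))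
      rw [← map_pow, he, map_mul, map_mul]
      field_simp
  infer_instance

theorem primes_correspond (A : Type u) [CommRing A] [Algebra R A]
    (hA : Admissible R (Ideal.span {t}) A) :
    (∀ p : Ideal A, p.IsPrime → algebraMap R A t ∉ p → ringKrullDim (A ⧸ p) = 1 →
        (p.map (algebraMap A (A ⊗[R] FractionRing R))).IsMaximal ∧
        (p.map (algebraMap A (A ⊗[R] FractionRing R))).comap (algebraMap A (A ⊗[R] FractionRing R)) = p) ∧
      (∀ m : Ideal (A ⊗[R] FractionRing R), m.IsMaximal →
        algebraMap R A t ∉ m.comap (algebraMap A (A ⊗[R] FractionRing R)) ∧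
          ringKrullDim (A ⧸ m.comap (algebraMap A (A ⊗[R] FractionRing R))) = 1 ∧
          (m.comap (algebraMap A (A ⊗[R] FractionRing R))).map (algebraMap A (A ⊗[R] FractionRing R)) = m) := by
  haveI := isLocalization_away_tensor hR ht A
  let S := A ⊗[R] FractionRing R
  let x := algebraMap R A t
  have hA' := topFiniteType_of_admissible hR ht hA
  have hq : ∀ p : Ideal A, TopFiniteType R (Ideal.span {t}) (A ⧸ p) := fun p => by
    obtain ⟨m, χ, hχ⟩ := hA'
    exact ⟨m, (Ideal.Quotient.mkₐ R p).comp χ, (Ideal.Quotient.mkₐ_surjective R p).comp hχ⟩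
  have hdisj : ∀ p : Ideal A, p.IsPrime → x ∉ p → Disjoint (Submonoid.powers x : Set A) p := fun p hp hx => by
    rw [Set.disjoint_left]
    rintro _ ⟨k, rfl⟩ h
    exact hx (hp.mem_of_pow_mem k h)
  refine ⟨fun p hp hx hdim => ?_, fun 𝔪 h𝔪 => ?_⟩
  · haveI := hp
    haveI : Ring.KrullDimLE 1 (A ⧸ p) := Ring.krullDimLE_iff.mpr (le_of_eq hdim)
    have hP := IsLocalization.isPrime_of_isPrime_disjoint (Submonoid.powers x) S p hp (hdisj p hp hx)
    have hc := IsLocalization.comap_map_of_isPrime_disjoint (Submonoid.powers x) S hp (hdisj p hp hx)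
    refine ⟨?_, hc⟩
    obtain ⟨M, hM, hle⟩ := Ideal.exists_le_maximal _ hP.ne_top
    suffices hMp : M.comap (algebraMap A S) ≤ p by
      have : M = p.map (algebraMap A S) := by
        refine le_antisymm ?_ hle
        rw [← IsLocalization.map_comap (Submonoid.powers x) S M]
        exact Ideal.map_mono hMp
      exact this ▸ hM
    intro a ha
    by_contra hap
    obtain ⟨N, b, hb⟩ := forall_dvd_pow_of_krullDimLE hR ht (A ⧸ p) (hq p)
      (b := Ideal.Quotient.mk p a) (fun h => hap (Ideal.Quotient.eq_zero_iff_mem.mp h))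
    obtain ⟨b, rfl⟩ := Ideal.Quotient.mk_surjective b
    have h1 : x ^ N - a * b ∈ M.comap (algebraMap A S) := by
      refine (hc.ge.trans (Ideal.comap_mono hle)) (Ideal.Quotient.eq.mp ?_)
      rw [map_pow, map_mul, ← hb]
      exact congrArg (· ^ N) (IsScalarTower.algebraMap_apply R A (A ⧸ p) t).symm
    have h2 : x ^ N ∈ M.comap (algebraMap A S) :=
      (sub_add_cancel (x ^ N) (a * b)) ▸ add_mem h1 (Ideal.mul_mem_right _ _ ha)
    rw [Ideal.mem_comap, map_pow] at h2
    exact hM.ne_top (Ideal.eq_top_of_isUnit_mem _ h2 ((IsLocalization.Away.algebraMap_isUnit x).pow N))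
  · haveI := h𝔪
    haveI := h𝔪.isPrime
    let p := 𝔪.comap (algebraMap A S)
    have hx : x ∉ p := fun h =>
      h𝔪.ne_top (Ideal.eq_top_of_isUnit_mem _ h (IsLocalization.Away.algebraMap_isUnit x))
    have hmap := IsLocalization.map_comap (Submonoid.powers x) S 𝔪
    refine ⟨hx, ?_, hmap⟩
    have htp : algebraMap R (A ⧸ p) t ≠ 0 := fun h => hx (Ideal.Quotient.eq_zero_iff_mem.mp h)
    haveI : Module.Finite R (A ⧸ p) := finite_of_forall_dvd_pow hR ht (A ⧸ p) (hq p) htp fun b hb => by
      obtain ⟨a, rfl⟩ := Ideal.Quotient.mk_surjective b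
      have ha : algebraMap A S a ∉ 𝔪 := fun h => hb (Ideal.Quotient.eq_zero_iff_mem.mpr h)
      obtain ⟨y, z, hz, hyz⟩ := h𝔪.exists_inv ha
      obtain ⟨⟨c, _, k, rfl⟩, hc⟩ := IsLocalization.surj (Submonoid.powers x) y
      refine ⟨k, Ideal.Quotient.mk p c, ?_⟩
      rw [show algebraMap R (A ⧸ p) t = Ideal.Quotient.mk p x from rfl, ← map_pow, ← map_mul,
        Ideal.Quotient.eq]
      show algebraMap A S (x ^ k - a * c) ∈ 𝔪
      rw [map_sub, map_mul, ← hc]
      have : algebraMap A S (x ^ k) - algebraMap A S a * (y * algebraMap A S (x ^ k)) =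
          algebraMap A S (x ^ k) * z := by
        linear_combination (-algebraMap A S (x ^ k)) * hyz
      rw [this]
      exact Ideal.mul_mem_left _ _ hz
    exact (isLocalRing_and_dim_of_finite hR ht (A ⧸ p) htp).2.1

omit [IsDomain R] [ValuationRing R] [Ring.KrullDimLE 1 R] hR ht in
/-- Points of a field lift to a finite free algebra. -/
theorem exists_free_lift {F : Type u} [CommRing F] [Algebra R F] :
    ∀ (n : ℕ) (g : Fin n → Polynomial R) (ξ : Fin n → F), (∀ i, (g i).Monic) →
      (∀ i, Polynomial.aeval (ξ i) (g i) = 0) →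
      ∃ (T : Type u) (_ : CommRing T) (_ : Algebra R T) (_ : Module.Finite R T) (_ : Module.Free R T)
        (χ : T →ₐ[R] F) (x : Fin n → T), ∀ i, χ (x i) = ξ i := by
  intro n
  induction n with
  | zero => exact fun _ _ _ _ => ⟨R, inferInstance, inferInstance, inferInstance, inferInstance,
      Algebra.ofId R F, Fin.elim0, fun i => i.elim0⟩
  | succ n ih =>
    intro g ξ hg hξ
    obtain ⟨T, _, _, _, _, χ, x, hx⟩ := ih (g ∘ Fin.succ) (ξ ∘ Fin.succ) (fun i => hg _) fun i => hξ _
    let G : Polynomial T := (g 0).map (algebraMap R T)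
    have hG : G.Monic := (hg 0).map _
    haveI : Module.Finite T (AdjoinRoot G) := hG.finite_adjoinRoot
    haveI : Module.Free T (AdjoinRoot G) := hG.free_adjoinRoot
    haveI : Module.Finite R (AdjoinRoot G) := Module.Finite.trans T _
    haveI : Module.Free R (AdjoinRoot G) := Module.Free.trans (S := T)
    let χ' : AdjoinRoot G →ₐ[R] F :=
      { toRingHom := AdjoinRoot.lift χ.toRingHom (ξ 0) (by
          rw [Polynomial.eval₂_map, show χ.toRingHom.comp (algebraMap R T) = algebraMap R F from χ.comp_algebraMap]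
          exact hξ 0)
        commutes' := fun r => by
          rw [IsScalarTower.algebraMap_apply R T (AdjoinRoot G)]
          simp }
    refine ⟨AdjoinRoot G, inferInstance, inferInstance, inferInstance, inferInstance, χ',
      Fin.cases (AdjoinRoot.root G) (fun i => AdjoinRoot.of G (x i)), fun i => ?_⟩
    refine Fin.cases ?_ (fun i => ?_) i
    · simp [χ']
    · simpa [χ'] using hx i

theorem exists_prime_le_maximal (n : ℕ) (𝔪 : Ideal (RPow R (Ideal.span {t}) n)) [𝔪.IsMaximal]
    (hm : algebraMap R (RPow R (Ideal.span {t}) n) t ∈ 𝔪) :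
    ∃ p : Ideal (RPow R (Ideal.span {t}) n), p.IsPrime ∧ p ≤ 𝔪 ∧
      algebraMap R (RPow R (Ideal.span {t}) n) t ∉ p ∧
      ringKrullDim (RPow R (Ideal.span {t}) n ⧸ p) = 1 := by
  classical
  have hb := isBase_of_valuation hR ht
  let P := RPow R (Ideal.span {t}) n
  let S := MvPolynomial (Fin n) R
  letI := Ideal.Quotient.field 𝔪
  let k := IsLocalRing.ResidueField R
  -- the residue field is algebraic over the residue field of `R`
  have hcomap : 𝔪.comap (algebraMap R P) = IsLocalRing.maximalIdeal R := by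
    refine le_antisymm (IsLocalRing.le_maximalIdeal fun h => ‹𝔪.IsMaximal›.ne_top ?_) fun a ha => ?_
    · rw [Ideal.eq_top_iff_one, ← map_one (algebraMap R P)]
      exact (h.ge Submodule.mem_top : (1 : R) ∈ _)
    · obtain ⟨j, e, he⟩ := maximalIdeal_le_radical hR ht ha |>.imp fun j hj => Ideal.mem_span_singleton.mp hj
      refine ‹𝔪.IsMaximal›.isPrime.mem_of_pow_mem j ?_
      rw [← map_pow, he, map_mul]
      exact Ideal.mul_mem_right _ _ hm
  letI : Algebra k (P ⧸ 𝔪) := (Ideal.Quotient.lift (IsLocalRing.maximalIdeal R) (algebraMap R (P ⧸ 𝔪))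
    fun a ha => Ideal.Quotient.eq_zero_iff_mem.mpr (hcomap.ge ha)).toAlgebra
  haveI : IsScalarTower R k (P ⧸ 𝔪) := IsScalarTower.of_algebraMap_eq fun _ => rfl
  haveI : Algebra.FiniteType R (P ⧸ 𝔪) := finiteType_quotient_of_topFiniteType hb
    ⟨n, AlgHom.id R _, Function.surjective_id⟩ 𝔪
      (Ideal.map_le_iff_le_comap.mpr ((Ideal.span_singleton_le_iff_mem _).mpr hm))
  haveI : Algebra.FiniteType k (P ⧸ 𝔪) := Algebra.FiniteType.of_restrictScalars_finiteType R k _
  haveI : Module.Finite k (P ⧸ 𝔪) := finite_of_finite_type_of_isJacobsonRing k (P ⧸ 𝔪)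
  let ξ : Fin n → P ⧸ 𝔪 := fun i => Ideal.Quotient.mk 𝔪 (algebraMap S P (MvPolynomial.X i))
  have hlift : ∀ i, ∃ g : Polynomial R, g.Monic ∧ Polynomial.aeval (ξ i) g = 0 := fun i => by
    obtain ⟨q, hq, hq0⟩ := Algebra.IsIntegral.isIntegral (R := k) (ξ i)
    obtain ⟨g, hg, -, hgm⟩ := Polynomial.lifts_and_degree_eq_and_monic (f := IsLocalRing.residue R)
      ((Polynomial.mem_lifts _).mpr (Polynomial.map_surjective _ IsLocalRing.residue_surjective q)) hq
    refine ⟨g, hgm, ?_⟩
    rw [← Polynomial.aeval_map_algebraMap k, show algebraMap R k = IsLocalRing.residue R from rfl, hg]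
    exact hq0
  choose g hgm hg0 using hlift
  obtain ⟨T, _, _, _, _, χ, x, hx⟩ := exists_free_lift (F := P ⧸ 𝔪) n g ξ hgm hg0
  have hR' : TopFiniteType R (Ideal.span {t}) R := by
    haveI : IsAdicComplete ((Ideal.span {t}).map (algebraMap R R)) R := by
      rw [Algebra.algebraMap_self, Ideal.map_id]; exact hR
    obtain ⟨ψ, -⟩ := exists_rpow_lift (A := R) (n := 0) (Submodule.fg_span_singleton t) Fin.elim0
    exact ⟨0, ψ, fun r => ⟨algebraMap R _ r, ψ.commutes r⟩⟩
  haveI := isAdicComplete_of_topFiniteType hb hR' T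
  haveI : IsAdicComplete ((Ideal.span {t}).map (algebraMap R T)) T :=
    (IsAdicComplete.map_algebraMap_iff (S := T) (Ideal.span {t}) T).mpr inferInstance
  obtain ⟨φ, hφ⟩ := exists_rpow_lift (A := T) (Submodule.fg_span_singleton t) x
  have hχ : ∀ z : P, χ (φ z) = Ideal.Quotient.mk 𝔪 z := fun z => by
    obtain ⟨p, w, rfl⟩ := rpow_dense (t := t) z 1
    have h0 : Ideal.Quotient.mk 𝔪 (t ^ 1 • w) = 0 := by
      rw [Ideal.Quotient.eq_zero_iff_mem, pow_one, Algebra.smul_def]
      exact Ideal.mul_mem_right _ _ hm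
    have h1 : χ (φ (t ^ 1 • w)) = 0 := by
      rw [map_smul, map_smul, pow_one, Algebra.smul_def,
        show algebraMap R (P ⧸ 𝔪) t = 0 from Ideal.Quotient.eq_zero_iff_mem.mpr hm, zero_mul]
    rw [map_add, map_add, map_add, h0, h1, add_zero, add_zero, hφ]
    exact DFunLike.congr_fun (MvPolynomial.algHom_ext (f := χ.comp (MvPolynomial.aeval x))
      (g := (Ideal.Quotient.mkₐ R 𝔪).comp (IsScalarTower.toAlgHom R S P)) fun i => by
        simp [hx, ξ]; rfl) p
  let Q : Ideal T := RingHom.ker χ.toRingHom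
  haveI : Q.IsPrime := RingHom.ker_isPrime _
  obtain ⟨q, hqmin, hqQ⟩ := Ideal.exists_minimalPrimes_le (bot_le : (⊥ : Ideal T) ≤ Q)
  haveI := hqmin.1.1
  have htq : algebraMap R T t ∉ q := fun h => by
    haveI : Nontrivial T := χ.toRingHom.domain_nontrivial
    refine (Set.disjoint_left.mp (Ideal.disjoint_nonZeroDivisors_of_mem_minimalPrimes hqmin)) h ?_
    rw [SetLike.mem_coe, mem_nonZeroDivisors_iff_right]
    intro z hz
    haveI : Module.Flat R T := inferInstance
    apply Module.Flat.isSMulRegular_of_nonZeroDivisors (M := T) (mem_nonZeroDivisors_of_ne_zero ht)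
    show t • z = t • 0
    rw [smul_zero, Algebra.smul_def, mul_comm]
    exact hz
  refine ⟨q.comap φ.toRingHom, Ideal.comap_isPrime _ _, fun z hz => ?_, fun h => ?_, ?_⟩
  · rw [← Ideal.Quotient.eq_zero_iff_mem, ← hχ]
    exact hqQ hz
  · rw [Ideal.mem_comap] at h
    exact htq (φ.commutes t ▸ h)
  · let ι : P ⧸ q.comap φ.toRingHom →ₐ[R] T ⧸ q :=
      Ideal.quotientMapₐ q φ le_rfl
    have hι : Function.Injective ι := Ideal.quotientMap_injective' (H := le_rfl) le_rfl
    haveI : (q.comap φ.toRingHom).IsPrime := Ideal.comap_isPrime _ _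
    haveI : Algebra.IsIntegral R (P ⧸ q.comap φ.toRingHom) := ⟨fun z =>
      (isIntegral_algHom_iff ι hι).mp (Algebra.IsIntegral.isIntegral (ι z))⟩
    have hinj : Function.Injective (algebraMap R (P ⧸ q.comap φ.toRingHom)) := fun a b h =>
      (isLocalRing_and_dim_of_finite hR ht (T ⧸ q) fun h => htq (Ideal.Quotient.eq_zero_iff_mem.mp h)).2.2
        (by rw [← ι.commutes a, ← ι.commutes b, h])
    exact (Groth.L22.AffineDim.ringKrullDim_eq_of_isIntegral hinj).trans (ringKrullDim_eq_one hR ht)

end Groth.L05.Bosch
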