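import Groth.Agent.L05.Bosch.Apps
import Groth.Agent.L05.Hensel.IntegralDomain
import Groth.Agent.L05.Hensel.Perm
import Groth.Agent.L22.AffineDim
import Mathlib.RingTheory.KrullDimension.LocalRing
import Mathlib.RingTheory.Polynomial.ScaleRoots
import Mathlib.RingTheory.NoetherNormalization
import Mathlib.RingTheory.Henselian
import Mathlib.RingTheory.Ideal.GoingUp
import Mathlib.RingTheory.KrullDimension.Basic
import Mathlib.Algebra.Polynomial.Lifts

/-!
# Rig points: algebras over a complete valuation ring whose generic fibre is a field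
-/

set_option autoImplicit false

open AdicRing

universe u v w

namespace Groth.L05.Bosch

variable {R : Type u} [CommRing R] [IsDomain R] [ValuationRing R] [Ring.KrullDimLE 1 R] {t : R}
variable (hR : IsAdicComplete (Ideal.span {t}) R) (ht : t ≠ 0)

include hR ht

theorem isBase_of_valuation : IsBase R (Ideal.span {t}) :=
  ⟨hR, Or.inr ⟨inferInstance, inferInstance, inferInstance, t, ht, rfl⟩⟩

theorem maximalIdeal_le_radical : IsLocalRing.maximalIdeal R ≤ (Ideal.span {t}).radical := fun _ ha =>
  let ⟨k, hk⟩ := exists_dvd_pow (a := _) ((IsLocalRing.mem_maximalIdeal _).mp ha) ht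
  ⟨k, Ideal.mem_span_singleton.mpr hk⟩

theorem henselianLocalRing_of_complete : HenselianLocalRing R := by
  haveI := hR
  haveI : HenselianRing R (Ideal.span {t}) := inferInstance
  haveI := Groth.L05.henselianRing_radical (Ideal.span {t})
  haveI := Groth.L05.henselianRing_mono (maximalIdeal_le_radical hR ht)
  exact Groth.L05.henselianLocalRing_of_henselianRing

theorem ringKrullDim_eq_one : ringKrullDim R = 1 := by
  refine ringKrullDim_eq_one_iff_of_isLocalRing_isDomain.mpr ⟨fun h => ?_, fun x hx a ha => ?_⟩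
  · obtain ⟨b, hb⟩ := h.mul_inv_cancel ht
    exact not_isUnit_of_isAdicComplete hR (IsUnit.of_mul_eq_one b hb)
  · obtain ⟨k, hk⟩ := exists_dvd_pow ((IsLocalRing.mem_maximalIdeal _).mp ha) hx
    exact ⟨k, Ideal.mem_span_singleton.mpr hk⟩

omit hR ht in
theorem not_isUnit_algebraMap {B : Type v} [CommRing B] [Algebra R B] [Nontrivial B]
    [IsAdicComplete ((Ideal.span {t}).map (algebraMap R B)) B] : ¬ IsUnit (algebraMap R B t) := fun h => by
  have hj := IsAdicComplete.le_jacobson_bot ((Ideal.span {t}).map (algebraMap R B))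
    (Ideal.mem_map_of_mem _ (Ideal.mem_span_singleton_self t))
  obtain ⟨M, hM⟩ := Ideal.exists_maximal B
  exact hM.ne_top (Ideal.eq_top_of_isUnit_mem _ (((Ideal.mem_jacobson_bot).mp hj) |> fun hu =>
    (sInf_le (a := M) ⟨bot_le, hM⟩ : Ideal.jacobson ⊥ ≤ M) hj) h)

/-- A torsion free algebra topologically of finite type whose generic fibre is a field is finite. -/
theorem finite_of_forall_dvd_pow (B : Type u) [CommRing B] [IsDomain B] [Algebra R B]
    (hB : TopFiniteType R (Ideal.span {t}) B) (htB : algebraMap R B t ≠ 0)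
    (hdvd : ∀ b : B, b ≠ 0 → ∃ N, b ∣ algebraMap R B t ^ N) : Module.Finite R B := by
  classical
  have hb := isBase_of_valuation hR ht
  have hI := isBase_fg hb
  haveI := isAdicComplete_map_of_topFiniteType hb hB
  let m := IsLocalRing.maximalIdeal R
  let mB := m.map (algebraMap R B)
  have htm : t ∈ m := (IsLocalRing.mem_maximalIdeal _).mpr (not_isUnit_of_isAdicComplete hR)
  have hIm : Ideal.span {t} ≤ m := (Ideal.span_singleton_le_iff_mem m).mpr htm
  have hrad : mB ≤ ((Ideal.span {t}).map (algebraMap R B)).radical :=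
    (Ideal.map_mono (maximalIdeal_le_radical hR ht)).trans (Ideal.map_radical_le _)
  haveI : Nontrivial (B ⧸ mB) := Ideal.Quotient.nontrivial_iff.mpr fun htop => by
    have h1 : (Ideal.span {t}).map (algebraMap R B) = ⊤ :=
      Ideal.radical_eq_top.mp (top_le_iff.mp (htop ▸ hrad))
    rw [Ideal.map_span, Set.image_singleton, Ideal.span_singleton_eq_top] at h1
    exact not_isUnit_algebraMap (t := t) h1
  letI := Ideal.Quotient.field m
  haveI : Algebra.FiniteType R (B ⧸ mB) :=
    finiteType_quotient_of_topFiniteType hb hB mB (Ideal.map_mono hIm)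
  haveI : Algebra.FiniteType (R ⧸ m) (B ⧸ mB) := Algebra.FiniteType.of_restrictScalars_finiteType R (R ⧸ m) _
  obtain ⟨s, g, hginj, hgfin⟩ := exists_finite_inj_algHom_of_fg (R ⧸ m) (B ⧸ mB)
  choose b hbg using fun i => Ideal.Quotient.mk_surjective (g (MvPolynomial.X i))
  obtain ⟨φ, hφ⟩ := exists_rpow_lift (A := B) hI b
  have hbot : (Ideal.span {t}).map (algebraMap R (MvPolynomial (Fin s) (R ⧸ m))) = ⊥ := by
    rw [IsScalarTower.algebraMap_eq R (R ⧸ m) (MvPolynomial (Fin s) (R ⧸ m)), ← Ideal.map_map,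
      show (Ideal.span {t}).map (algebraMap R (R ⧸ m)) = ⊥ from Ideal.map_mk_eq_bot_of_le hIm, Ideal.map_bot]
  haveI : IsAdicComplete ((Ideal.span {t}).map (algebraMap R (MvPolynomial (Fin s) (R ⧸ m))))
      (MvPolynomial (Fin s) (R ⧸ m)) := by rw [hbot]; infer_instance
  obtain ⟨χ, hχ⟩ := exists_rpow_lift (A := MvPolynomial (Fin s) (R ⧸ m)) hI (n := s) MvPolynomial.X
  have hm0 : ∀ e ∈ m, algebraMap R (MvPolynomial (Fin s) (R ⧸ m)) e = 0 := fun e he => by
    rw [IsScalarTower.algebraMap_apply R (R ⧸ m) (MvPolynomial (Fin s) (R ⧸ m)), Ideal.Quotient.algebraMap_eq,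
      Ideal.Quotient.eq_zero_iff_mem.mpr he, map_zero]
  have hsq : ∀ x : RPow R (Ideal.span {t}) s, Ideal.Quotient.mk mB (φ x) = g (χ x) := by
    intro x
    obtain ⟨p, z, hpz⟩ := rpow_dense (t := t) x 1
    have h1 : (Ideal.Quotient.mkₐ R mB).comp (MvPolynomial.aeval b) =
        (g.restrictScalars R).comp (MvPolynomial.aeval (MvPolynomial.X)) :=
      MvPolynomial.algHom_ext fun i => by simp [hbg]
    have h2 : Ideal.Quotient.mk mB (φ (t ^ 1 • z)) = 0 := by
      rw [Ideal.Quotient.eq_zero_iff_mem, map_smul, pow_one, Algebra.smul_def]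
      exact Ideal.mul_mem_right _ _ (Ideal.mem_map_of_mem _ htm)
    have h3 : χ (t ^ 1 • z) = 0 := by
      rw [map_smul, pow_one, Algebra.smul_def, hm0 t htm, zero_mul]
    rw [hpz, map_add, map_add, map_add, h2, h3, add_zero, add_zero, hφ, hχ]
    exact DFunLike.congr_fun h1 p
  have hχsurj : Function.Surjective χ := fun y => by
    obtain ⟨p, rfl⟩ := MvPolynomial.map_surjective (Ideal.Quotient.mk m) Ideal.Quotient.mk_surjective y
    refine ⟨algebraMap (MvPolynomial (Fin s) R) _ p, ?_⟩
    rw [hχ]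
    exact DFunLike.congr_fun (MvPolynomial.ringHom_ext (f := (MvPolynomial.aeval (R := R)
      (MvPolynomial.X (R := R ⧸ m) (σ := Fin s))).toRingHom) (g := MvPolynomial.map (Ideal.Quotient.mk m))
      (fun r => by simp [IsScalarTower.algebraMap_apply R (R ⧸ m) (MvPolynomial (Fin s) (R ⧸ m))])
      (fun i => by simp)) p
  letI : Algebra (RPow R (Ideal.span {t}) s) B := φ.toRingHom.toAlgebra
  haveI : IsScalarTower R (RPow R (Ideal.span {t}) s) B :=
    IsScalarTower.of_algebraMap_eq fun x => (φ.commutes x).symm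
  -- `B` modulo `t` is integral over the restricted power series
  let Bt := B ⧸ (Ideal.span {t}).map (algebraMap R B)
  haveI : Algebra.IsIntegral (RPow R (Ideal.span {t}) s) Bt := ⟨fun y => by
    obtain ⟨x, rfl⟩ := Ideal.Quotient.mk_surjective y
    letI := g.toRingHom.toAlgebra
    haveI : Module.Finite (MvPolynomial (Fin s) (R ⧸ m)) (B ⧸ mB) := hgfin
    haveI : Algebra.IsIntegral (MvPolynomial (Fin s) (R ⧸ m)) (B ⧸ mB) := Algebra.IsIntegral.of_finite _ _
    obtain ⟨q, hqm, hq0⟩ := Algebra.IsIntegral.isIntegral (R := MvPolynomial (Fin s) (R ⧸ m)) (A := B ⧸ mB)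
      (Ideal.Quotient.mk mB x)
    obtain ⟨Q, hQ, -, hQm⟩ := Polynomial.lifts_and_degree_eq_and_monic (f := χ.toRingHom)
      ((Polynomial.mem_lifts _).mpr (Polynomial.map_surjective χ.toRingHom hχsurj q)) hqm
    have h1 : Polynomial.eval₂ φ.toRingHom x Q ∈ mB := by
      rw [← Ideal.Quotient.eq_zero_iff_mem, Polynomial.hom_eval₂,
        show (Ideal.Quotient.mk mB).comp φ.toRingHom = g.toRingHom.comp χ.toRingHom from RingHom.ext hsq,
        ← Polynomial.eval₂_map, hQ]
      exact hq0
    obtain ⟨N, hN⟩ := hrad h1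
    refine ⟨Q ^ N, hQm.pow N, ?_⟩
    rw [Polynomial.eval₂_pow, show algebraMap (RPow R (Ideal.span {t}) s) Bt =
      (Ideal.Quotient.mk _).comp φ.toRingHom from rfl, ← Polynomial.hom_eval₂, ← map_pow]
    exact Ideal.Quotient.eq_zero_iff_mem.mpr hN⟩
  haveI : Algebra.FiniteType R Bt := finiteType_quotient_of_topFiniteType hb hB _ le_rfl
  haveI : Algebra.FiniteType (RPow R (Ideal.span {t}) s) Bt :=
    Algebra.FiniteType.of_restrictScalars_finiteType R (RPow R (Ideal.span {t}) s) Bt
  haveI : Module.Finite (RPow R (Ideal.span {t}) s) Bt := Algebra.IsIntegral.finite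
  have hP : TopFiniteType R (Ideal.span {t}) (RPow R (Ideal.span {t}) s) :=
    ⟨s, AlgHom.id R _, Function.surjective_id⟩
  haveI hPB : Module.Finite (RPow R (Ideal.span {t}) s) B := by
    obtain ⟨r, y, hy⟩ := Module.Finite.exists_fin (R := RPow R (Ideal.span {t}) s) (M := Bt)
    choose x hx using fun i => Ideal.Quotient.mk_surjective (y i)
    let F := Fintype.linearCombination (RPow R (Ideal.span {t}) s) x
    haveI := isAdicComplete_of_topFiniteType hb hP (Fin r → RPow R (Ideal.span {t}) s)
    haveI := isAdicComplete_of_topFiniteType hb hB B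
    refine Module.Finite.of_surjective F (surjective_of_mkQ_comp_surjective (I := Ideal.span {t})
      (f := F.restrictScalars R) fun z => ?_)
    obtain ⟨w, rfl⟩ := Submodule.Quotient.mk_surjective _ z
    obtain ⟨c, hc⟩ := (Submodule.mem_span_range_iff_exists_fun _).mp
      (hy ▸ Submodule.mem_top : Ideal.Quotient.mk ((Ideal.span {t}).map (algebraMap R B)) w ∈ _)
    refine ⟨c, (Submodule.Quotient.eq _).mpr ?_⟩
    rw [Ideal.smul_top_eq_map, Submodule.restrictScalars_mem, ← Ideal.Quotient.eq, ← hc]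
    simp only [F, LinearMap.restrictScalars_apply, Fintype.linearCombination_apply, map_sum, ← hx]
    rfl
  obtain rfl : s = 0 := by
    by_contra hs
    have hφinj : Function.Injective φ := by
      refine (injective_iff_map_eq_zero φ).mpr fun x hx => by_contra fun hx0 => ?_
      obtain ⟨j, hj⟩ : ∃ j, ¬ ∃ w, x = t ^ j • w := by
        by_contra hall
        push Not at hall
        exact hx0 (rpow_separated x hall)
      obtain ⟨p, z, hpz⟩ := rpow_dense (t := t) x j
      obtain ⟨d, hd, hdc, hds⟩ := exists_dvd_all (t ^ j) (p.support.image fun a => MvPolynomial.coeff a p)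
      obtain ⟨p', hp'⟩ := (MvPolynomial.C_dvd_iff_dvd_coeff d p).mpr fun a => by
        by_cases h : MvPolynomial.coeff a p = 0
        · rw [h]; exact dvd_zero d
        · exact hds _ (Finset.mem_image_of_mem _ (MvPolynomial.mem_support_iff.mpr h))
      obtain ⟨e, he⟩ := hdc
      have hd0 : d ≠ 0 := fun h => pow_ne_zero j ht (by rw [he, h, zero_mul])
      have hxd : x = d • (algebraMap (MvPolynomial (Fin s) R) _ p' + e • z) := by
        have hC : algebraMap (MvPolynomial (Fin s) R) (RPow R (Ideal.span {t}) s) (MvPolynomial.C d) =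
            algebraMap R (RPow R (Ideal.span {t}) s) d :=
          (IsScalarTower.algebraMap_apply R (MvPolynomial (Fin s) R) (RPow R (Ideal.span {t}) s) d).symm
        rw [hpz, hp', map_mul, hC, ← Algebra.smul_def, smul_add, smul_smul, ← he]
      have hne : ¬ IsUnit e := fun ⟨u, hu⟩ => hj ⟨(↑u⁻¹ : R) • (algebraMap (MvPolynomial (Fin s) R) _ p' + e • z),
        by rw [hxd, he, ← hu, smul_smul, mul_assoc, Units.mul_inv, mul_one]⟩
      have hφ0 : φ (algebraMap (MvPolynomial (Fin s) R) _ p' + e • z) = 0 := by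
        have h1 : algebraMap R B d * φ (algebraMap (MvPolynomial (Fin s) R) _ p' + e • z) = 0 := by
          rw [← Algebra.smul_def, ← map_smul, ← hxd, hx]
        refine (mul_eq_zero.mp h1).resolve_left fun h => pow_ne_zero j htB ?_
        rw [← map_pow, he, map_mul, h, zero_mul]
      have hχ0 : χ (algebraMap (MvPolynomial (Fin s) R) _ p' + e • z) = 0 := hginj (by
        rw [← hsq, hφ0, map_zero, map_zero])
      rw [map_add, map_smul, Algebra.smul_def, hm0 e ((IsLocalRing.mem_maximalIdeal _).mpr hne), zero_mul,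
        add_zero, hχ] at hχ0
      rcases hd with hd | hd
      · exact hne (IsUnit.of_mul_eq_one 1 (mul_left_cancel₀ hd0 (by rw [mul_one, mul_one, ← he, hd])))
      obtain ⟨a, ha, had⟩ := Finset.mem_image.mp hd
      have ha1 : MvPolynomial.coeff a p' = 1 := mul_left_cancel₀ hd0
        (by rw [mul_one, ← MvPolynomial.coeff_C_mul, ← hp', had])
      have hmap : MvPolynomial.aeval (R := R) (MvPolynomial.X (R := R ⧸ m) (σ := Fin s)) p' =
          MvPolynomial.map (Ideal.Quotient.mk m) p' :=
        DFunLike.congr_fun (MvPolynomial.ringHom_ext (f := (MvPolynomial.aeval (R := R)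
          (MvPolynomial.X (R := R ⧸ m) (σ := Fin s))).toRingHom) (g := MvPolynomial.map (Ideal.Quotient.mk m))
          (fun r => by simp [IsScalarTower.algebraMap_apply R (R ⧸ m) (MvPolynomial (Fin s) (R ⧸ m))])
          (fun i => by simp)) p'
      have := congrArg (MvPolynomial.coeff a) (hmap.symm.trans hχ0)
      rw [MvPolynomial.coeff_map, ha1, map_one, MvPolynomial.coeff_zero] at this
      exact one_ne_zero this
    obtain ⟨i⟩ : Nonempty (Fin s) := ⟨⟨0, Nat.pos_of_ne_zero hs⟩⟩
    let x₀ : RPow R (Ideal.span {t}) s := algebraMap (MvPolynomial (Fin s) R) _ (MvPolynomial.X i)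
    have hx₀ : φ x₀ ≠ 0 := by
      rw [hφ, MvPolynomial.aeval_X]
      intro h
      refine MvPolynomial.X_ne_zero (R := R ⧸ m) i (hginj ?_)
      rw [← hbg, h, map_zero, map_zero]
    obtain ⟨N, y, hy⟩ := hdvd _ hx₀
    obtain ⟨q, hqm, hq0⟩ := Algebra.IsIntegral.isIntegral (R := RPow R (Ideal.span {t}) s) y
    have h1 : φ ((q.scaleRoots x₀).eval (algebraMap R _ (t ^ N))) = 0 := by
      have h2 := Polynomial.scaleRoots_aeval_eq_zero (r := x₀) hq0
      rw [show algebraMap (RPow R (Ideal.span {t}) s) B x₀ * y = φ (algebraMap R _ (t ^ N)) by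
        rw [φ.commutes, map_pow]; exact hy.symm, Polynomial.aeval_def] at h2
      rw [← h2]
      exact Polynomial.hom_eval₂ (q.scaleRoots x₀) (RingHom.id _) φ.toRingHom _
    haveI : IsAdicComplete ((Ideal.span {t}).map (algebraMap R R)) R := by
      rw [Algebra.algebraMap_self, Ideal.map_id]; exact hR
    obtain ⟨ε, hε⟩ := exists_rpow_lift (A := R) hI (n := s) fun _ => (0 : R)
    have h3 : ε.toRingHom ((q.scaleRoots x₀).eval (algebraMap R _ (t ^ N))) = 0 := by
      rw [(injective_iff_map_eq_zero φ).mp hφinj _ h1, map_zero]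
    have hε0 : ε.toRingHom x₀ = 0 := by
      show ε x₀ = 0
      rw [hε, MvPolynomial.aeval_X]
    rw [← Polynomial.eval_map_apply, Polynomial.map_scaleRoots _ _ _
      (by rw [hqm.leadingCoeff, map_one]; exact one_ne_zero), hε0, Polynomial.scaleRoots_zero,
      (hqm.map _).leadingCoeff, one_smul, Polynomial.eval_pow, Polynomial.eval_X] at h3
    rw [show ε.toRingHom (algebraMap R _ (t ^ N)) = t ^ N from ε.commutes _, ← pow_mul] at h3
    exact pow_ne_zero _ ht h3
  haveI : Module.Finite R (RPow R (Ideal.span {t}) 0) := by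
    haveI := rpow_isAdicComplete hb 0
    haveI := hR
    refine Module.Finite.of_surjective (Algebra.linearMap R (RPow R (Ideal.span {t}) 0)) ?_
    refine surjective_of_mkQ_comp_surjective (I := Ideal.span {t}) (M := R)
      (N := RPow R (Ideal.span {t}) 0) (f := Algebra.linearMap R (RPow R (Ideal.span {t}) 0)) fun z => ?_
    obtain ⟨w, rfl⟩ := Submodule.Quotient.mk_surjective _ z
    obtain ⟨p, hp⟩ := completion_dense (C := MvPolynomial (Fin 0) R) hI w 1
    obtain ⟨r, rfl⟩ := MvPolynomial.C_surjective (Fin 0) p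
    refine ⟨r, ((Submodule.Quotient.eq _).mpr ?_).symm⟩
    rw [pow_one] at hp
    exact hp
  exact Module.Finite.trans (RPow R (Ideal.span {t}) 0) B

theorem forall_dvd_pow_of_krullDimLE (B : Type u) [CommRing B] [IsDomain B] [Algebra R B]
    (hB : TopFiniteType R (Ideal.span {t}) B) [Ring.KrullDimLE 1 B] {b : B} (hb : b ≠ 0) :
    ∃ N, b ∣ algebraMap R B t ^ N := by
  haveI := isAdicComplete_map_of_topFiniteType (isBase_of_valuation hR ht) hB
  have h : algebraMap R B t ∈ (Ideal.span {b}).radical := by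
    rw [Ideal.radical_eq_sInf, Ideal.mem_sInf]
    rintro P ⟨hP, hPp⟩
    have hP0 : P ≠ ⊥ := fun h => hb (by simpa [h] using hP (Ideal.mem_span_singleton_self b))
    have hmax := Ideal.IsPrime.isMaximal_of_ne_bot hPp hP0
    exact (sInf_le (a := P) ⟨bot_le, hmax⟩ : Ideal.jacobson ⊥ ≤ P)
      (IsAdicComplete.le_jacobson_bot ((Ideal.span {t}).map (algebraMap R B))
        (Ideal.mem_map_of_mem _ (Ideal.mem_span_singleton_self t)))
  obtain ⟨N, hN⟩ := h
  exact ⟨N, Ideal.mem_span_singleton.mp hN⟩

/-- A finite domain over `R` in which `t` is not zero is local of dimension one. -/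
theorem isLocalRing_and_dim_of_finite (B : Type u) [CommRing B] [IsDomain B] [Algebra R B]
    [Module.Finite R B] (htB : algebraMap R B t ≠ 0) :
    IsLocalRing B ∧ ringKrullDim B = 1 ∧ Function.Injective (algebraMap R B) := by
  haveI := henselianLocalRing_of_complete hR ht
  have hinj : Function.Injective (algebraMap R B) := (injective_iff_map_eq_zero _).mpr fun a ha => by
    by_contra h
    obtain ⟨k, hk⟩ := exists_dvd_pow (not_isUnit_of_isAdicComplete hR) h
    exact pow_ne_zero k htB (zero_dvd_iff.mp (by rw [← ha, ← map_pow]; exact map_dvd _ hk))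
  exact ⟨Groth.L05.isLocalRing_of_integral_domain (A := R) B,
    (Groth.L22.AffineDim.ringKrullDim_eq_of_isIntegral hinj).trans (ringKrullDim_eq_one hR ht), hinj⟩

end Groth.L05.Bosch
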